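import Mathlib

set_option autoImplicit false

/-!
# Artin-Schreier elements in characteristic three and commutators (helper156)
-/

namespace Cfsg.Agent.H156.Art

open Polynomial

section Scalars

variable {F : Type*} [Field F] [CharP F 3]

omit [CharP F 3] in
theorem cube_injective [CharP F 3] : Function.Injective (fun x : F => x ^ 3) := by
  have : Fact (Nat.Prime 3) := ⟨Nat.prime_three⟩
  exact frobenius_inj F 3

theorem cube_surjective [Finite F] : Function.Surjective (fun x : F => x ^ 3) :=
  Finite.injective_iff_surjective.1 cube_injective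

theorem pow_three_pow_surjective [Finite F] (N : ℕ) : Function.Surjective (fun x : F => x ^ (3 ^ N)) := by
  induction N with
  | zero => intro x; exact ⟨x, by simp⟩
  | succ N ih =>
    intro x
    obtain ⟨y, hy⟩ := ih x
    obtain ⟨z, hz⟩ := cube_surjective y
    refine ⟨z, ?_⟩
    show z ^ (3 ^ (N + 1)) = x
    have hz' : z ^ 3 = y := hz
    rw [pow_succ, mul_comm, pow_mul, hz']
    exact hy

theorem pow_three_pow_injective (N : ℕ) : Function.Injective (fun x : F => x ^ (3 ^ N)) := by
  have : Fact (Nat.Prime 3) := ⟨Nat.prime_three⟩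
  exact iterateFrobenius_inj F 3 N

/-- Solutions of `d³ = d`. -/
theorem fixed_cases {R : Type*} [CommRing R] [IsDomain R] [CharP R 3] {d : R} (h : d ^ 3 = d) :
    d = 0 ∨ d = 1 ∨ d = 2 := by
  have h3 : (3 : R) = 0 := by exact_mod_cast CharP.cast_eq_zero R 3
  have : d * ((d - 1) * (d - 2)) = 0 := by
    linear_combination h - d * (d - 1) * h3
  rcases mul_eq_zero.1 this with h | h
  · exact Or.inl h
  · rcases mul_eq_zero.1 h with h | h
    · exact Or.inr (Or.inl (sub_eq_zero.1 h))
    · exact Or.inr (Or.inr (sub_eq_zero.1 h))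

theorem sub_as (x y : F) : (x - y) ^ 3 - (x - y) = (x ^ 3 - x) - (y ^ 3 - y) := by
  have : Fact (Nat.Prime 3) := ⟨Nat.prime_three⟩
  rw [sub_pow_char (p := 3) x y]; ring

omit [CharP F 3] in
theorem exists_not_AS [Finite F] : ∃ c : F, ∀ x : F, x ^ 3 - x ≠ c := by
  by_contra hcon
  push Not at hcon
  have hsurj : Function.Surjective (fun x : F => x ^ 3 - x) := hcon
  have hinj := Finite.injective_iff_surjective.mpr hsurj
  have h01 : (0 : F) = 1 := hinj (by
    show (0 : F) ^ 3 - 0 = 1 ^ 3 - 1
    ring)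
  exact zero_ne_one h01

omit [CharP F 3] in
theorem natDegree_AS (c : F) : (X ^ 3 - X - C c : F[X]).natDegree = 3 := by
  compute_degree!

omit [CharP F 3] in
theorem irr_AS {c : F} (h : ∀ x : F, x ^ 3 - x ≠ c) : Irreducible (X ^ 3 - X - C c : F[X]) := by
  apply Polynomial.irreducible_of_degree_le_three_of_not_isRoot
  · rw [natDegree_AS]; simp
  · intro x hx
    rw [IsRoot.def, eval_sub, eval_sub, eval_pow, eval_X, eval_C, sub_eq_zero] at hx
    exact h x hx

end Scalars

section Ring

variable {F R : Type*} [Field F] [CharP F 3] [Ring R] [Algebra F R]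

theorem three_eq_zero (F R : Type*) [Field F] [CharP F 3] [Ring R] [Algebra F R] : (3 : R) = 0 := by
  have h : (3 : F) = 0 := by exact_mod_cast CharP.cast_eq_zero F 3
  have := congrArg (algebraMap F R) h
  rwa [map_ofNat, map_zero] at this

theorem charP (F R : Type*) [Field F] [CharP F 3] [Ring R] [Algebra F R] [Nontrivial R] : CharP R 3 :=
  charP_of_injective_algebraMap (algebraMap F R).injective 3

/-- The Jacobson formula, special case. -/
theorem jacobson (F : Type*) {R : Type*} [Field F] [CharP F 3] [Ring R] [Algebra F R]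
    {u u' t : R} (h1 : u * u' = 1) (h2 : u' * u = 1) (ht : u * t = (t + 1) * u)
    (b : R) (hb : ∀ x, Commute b x) :
    (t + b * (u + u')) ^ 3 = t ^ 3 + b * (u + u') + b ^ 3 * (u + u') ^ 3 := by
  have h3 := three_eq_zero F R
  -- commutation of `t` with `u'`
  have ht' : u' * t = (t - 1) * u' := by
    have e : u' * (u * t) * u' = u' * ((t + 1) * u) * u' := by rw [ht]
    have e1 : u' * (u * t) * u' = t * u' := by rw [← mul_assoc, h2, one_mul]
    have e2 : u' * ((t + 1) * u) * u' = u' * t + u' := by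
      rw [mul_assoc, mul_assoc, h1, mul_one, mul_add, mul_one]
    rw [e1, e2] at e
    rw [sub_mul, one_mul, e, add_sub_cancel_right]
  set y := u + u' with hy
  -- normal forms
  have hut : t * u = u * t - u := by rw [ht, add_mul, one_mul, add_sub_cancel_right]
  have hu't : t * u' = u' * t + u' := by rw [ht', sub_mul, one_mul, sub_add_cancel]
  have hd : t * y = y * t - u + u' := by
    rw [hy, mul_add, hut, hu't, add_mul]; abel
  have e1 : t * t * y + t * y * t + y * t * t = y + 3 * (t * y * t) := by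
    have a1 : t * t * y = t * y * t + (y - t * 0) + (t * y * t - y * t * t) := by
      rw [mul_assoc, hd, mul_add, mul_sub, ← mul_assoc, hut, hu't, hd]
      rw [hy]
      noncomm_ring
    rw [a1]
    noncomm_ring
  have e2 : t * y * y + y * t * y + y * y * t = 3 * (y * t * y) := by
    have c1 : y * u = u * y := by rw [hy, add_mul, mul_add, h1, h2]
    have c2 : y * u' = u' * y := by rw [hy, add_mul, mul_add, h1, h2]
    have a1 : t * y * y = y * t * y - u * y + u' * y := by rw [hd, add_mul, sub_mul]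
    have a2 : y * y * t = y * t * y + u * y - u' * y := by
      have : y * (t * y) = y * y * t - y * u + y * u' := by
        rw [hd, mul_add, mul_sub, mul_assoc]
      rw [← mul_assoc, c1, c2] at this
      rw [this]; abel
    rw [a1, a2]
    noncomm_ring
  have hbt := (hb t).eq
  have hby := (hb y).eq
  have expand : (t + b * y) ^ 3 = t ^ 3 + b * (t * t * y + t * y * t + y * t * t) +
      b ^ 2 * (t * y * y + y * t * y + y * y * t) + b ^ 3 * y ^ 3 := by
    have k1 : ∀ x : R, x * b = b * x := fun x => ((hb x).eq).symm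
    have k2 : ∀ x z : R, x * (b * z) = b * (x * z) := fun x z => by
      rw [← mul_assoc, k1, mul_assoc]
    simp only [pow_succ, pow_zero, one_mul, mul_add, add_mul, mul_assoc, k2, k1]
    abel
  rw [expand, e1, e2, h3, zero_mul, zero_mul, mul_zero, add_zero, add_zero]

theorem isNilpotent_three_pow {x : R} (h : IsNilpotent x) : ∃ N, ∀ M, N ≤ M → x ^ (3 ^ M) = 0 := by
  obtain ⟨n, hn⟩ := h
  refine ⟨n, fun M hM => ?_⟩
  have h1 : n ≤ 3 ^ M := hM.trans (Nat.lt_pow_self (by norm_num)).le
  exact pow_eq_zero_of_le h1 hn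

/-- The core construction. -/
theorem core [Finite F] [Nontrivial R] {u u' t : R} (h1 : u * u' = 1) (h2 : u' * u = 1)
    (ht : u * t = (t + 1) * u) {lz ly : F} {nz ny : R} (hz : t ^ 3 - t = algebraMap F R lz + nz)
    (hy : u + u' = algebraMap F R ly + ny) (hnz : IsNilpotent nz) (hny : IsNilpotent ny)
    (hly : ly ≠ 0) (c1 : F) :
    ∃ (N : ℕ) (c0 β : F), c0 ^ (3 ^ N) = c1 ∧ β ^ 3 * ly ^ 3 = c0 - lz ∧
      (((t + algebraMap F R β * (u + u')) ^ (3 ^ N)) ^ 3 -
        (t + algebraMap F R β * (u + u')) ^ (3 ^ N)) = algebraMap F R c1 := by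
  have hp : Fact (Nat.Prime 3) := ⟨Nat.prime_three⟩
  have hchar : CharP R 3 := charP F R
  obtain ⟨N1, hN1⟩ := isNilpotent_three_pow hnz
  obtain ⟨N2, hN2⟩ := isNilpotent_three_pow hny
  obtain ⟨c0, hc0⟩ := pow_three_pow_surjective (N1 + N2) c1
  obtain ⟨β, hβ⟩ := cube_surjective ((c0 - lz) * (ly ^ 3)⁻¹)
  have hβ' : β ^ 3 * ly ^ 3 = c0 - lz := by
    have : β ^ 3 = (c0 - lz) * (ly ^ 3)⁻¹ := hβ
    rw [this, mul_assoc, inv_mul_cancel₀ (pow_ne_zero _ hly), mul_one]
  refine ⟨N1 + N2, c0, β, hc0, hβ', ?_⟩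
  have hcomm : ∀ (a : F) (x : R), Commute (algebraMap F R a) x := fun a x => Algebra.commutes a x
  have hj := jacobson F h1 h2 ht (algebraMap F R β) (hcomm β)
  set w := t + algebraMap F R β * (u + u') with hw
  -- `nz` commutes with `ny`
  have hut : t * u = u * t - u := by rw [ht, add_mul, one_mul, add_sub_cancel_right]
  have hzu : Commute (t ^ 3 - t) u := by
    have e : u * t ^ 3 = (t + 1) ^ 3 * u := by
      rw [pow_succ, pow_two, pow_succ, pow_two, ← mul_assoc, ← mul_assoc, ht, mul_assoc (t + 1) u t, ht,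
        ← mul_assoc, mul_assoc ((t + 1) * (t + 1)) u t, ht, ← mul_assoc]
    have e2 : (t + 1) ^ 3 = t ^ 3 + 1 := by
      rw [add_pow_char_of_commute 3 (Commute.one_right t), one_pow]
    show (t ^ 3 - t) * u = u * (t ^ 3 - t)
    rw [mul_sub, e, e2, ht]
    noncomm_ring
  have hzu' : Commute (t ^ 3 - t) u' := by
    have e := hzu.eq
    show (t ^ 3 - t) * u' = u' * (t ^ 3 - t)
    calc (t ^ 3 - t) * u' = u' * (u * (t ^ 3 - t)) * u' := by rw [← mul_assoc, h2, one_mul]
      _ = u' * (t ^ 3 - t) * (u * u') := by rw [← e]; noncomm_ring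
      _ = u' * (t ^ 3 - t) := by rw [h1, mul_one]
  have hny_eq : ny = (u + u') - algebraMap F R ly := by rw [hy]; abel
  have hnz_eq : nz = (t ^ 3 - t) - algebraMap F R lz := by rw [hz]; abel
  have hnn : Commute nz ny := by
    rw [hny_eq, hnz_eq]
    exact ((hzu.add_right hzu').sub_left (hcomm lz _)).sub_right
      ((hcomm ly _).symm)
  have hy3 : (u + u') ^ 3 = algebraMap F R (ly ^ 3) + ny ^ 3 := by
    rw [hy, add_pow_char_of_commute 3 (hcomm ly ny), map_pow]
  have hw3 : w ^ 3 - w = algebraMap F R c0 + (nz + algebraMap F R (β ^ 3) * ny ^ 3) := by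
    rw [hj, hw]
    have : t ^ 3 + algebraMap F R β * (u + u') + algebraMap F R β ^ 3 * (u + u') ^ 3 -
        (t + algebraMap F R β * (u + u')) = (t ^ 3 - t) + algebraMap F R β ^ 3 * (u + u') ^ 3 := by abel
    rw [this, hz, hy3, mul_add, ← map_pow, ← map_mul, hβ', map_sub]
    abel
  have e3 : (w ^ 3 - w) ^ (3 ^ (N1 + N2)) = (w ^ (3 ^ (N1 + N2))) ^ 3 - w ^ (3 ^ (N1 + N2)) := by
    rw [sub_pow_char_pow_of_commute 3 _ (Commute.pow_self w 3), ← pow_mul, ← pow_mul, mul_comm]
  rw [← e3, hw3, add_pow_char_pow_of_commute 3 _ (hcomm c0 _),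
    add_pow_char_pow_of_commute 3 _ (((hcomm (β ^ 3) nz).symm).mul_right (hnn.pow_right 3)),
    hN1 _ (Nat.le_add_right _ _), (hcomm (β ^ 3) (ny ^ 3)).mul_pow, ← pow_mul, mul_comm 3, pow_mul,
    hN2 _ (Nat.le_add_left _ _), zero_pow (by norm_num), mul_zero, add_zero, add_zero, ← map_pow]
  have : c0 ^ 3 ^ (N1 + N2) = c1 := hc0
  rw [this]

/-- shifts of powers -/
theorem shift_pow [Nontrivial R] (F : Type*) [Field F] [CharP F 3] [Algebra F R] {g w : R} (h : g * w = (w + 1) * g) (N : ℕ) :
    g * w ^ (3 ^ N) = (w ^ (3 ^ N) + 1) * g := by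
  have hp : Fact (Nat.Prime 3) := ⟨Nat.prime_three⟩
  have hchar : CharP R 3 := charP F R
  have h1 : ∀ k : ℕ, g * w ^ k = (w + 1) ^ k * g := by
    intro k
    induction k with
    | zero => simp
    | succ k ih => rw [pow_succ, ← mul_assoc, ih, mul_assoc, h, pow_succ]; noncomm_ring
  rw [h1, add_pow_char_pow_of_commute 3 _ (Commute.one_right w), one_pow]

end Ring

section Trace

variable {F : Type*} [Field F] {n : Type*} [Fintype n] [DecidableEq n]

/-- Every linear functional on matrices is a trace. -/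
theorem exists_trace (l : Matrix n n F →ₗ[F] F) : ∃ C : Matrix n n F, ∀ M, l M = (M * C).trace := by
  refine ⟨Matrix.of fun i j => l (Matrix.single j i 1), fun M => ?_⟩
  conv_lhs => rw [Matrix.matrix_eq_sum_single M]
  rw [map_sum, Matrix.trace]
  refine Finset.sum_congr rfl fun i _ => ?_
  rw [map_sum, Matrix.diag_apply, Matrix.mul_apply]
  refine Finset.sum_congr rfl fun j _ => ?_
  have : Matrix.single i j (M i j) = M i j • Matrix.single i j (1 : F) := by
    rw [Matrix.smul_single, smul_eq_mul, mul_one]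
  rw [this, map_smul, smul_eq_mul, Matrix.of_apply]

/-- If every matrix commuting with `g` has trace zero then `g` is a commutator `gt - tg`. -/
theorem exists_shift {g : Matrix n n F} (h : ∀ c : Matrix n n F, g * c = c * g → c.trace = 0) :
    ∃ t : Matrix n n F, g * t = (t + 1) * g := by
  let φ : Matrix n n F →ₗ[F] Matrix n n F :=
    LinearMap.mulLeft F g - LinearMap.mulRight F g
  have hφ : ∀ t, φ t = g * t - t * g := fun t => rfl
  by_cases hg : g ∈ LinearMap.range φ
  · obtain ⟨t, ht⟩ := hg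
    refine ⟨t, ?_⟩
    rw [hφ] at ht
    rw [add_mul, one_mul]
    exact (sub_eq_iff_eq_add'.1 ht)
  · exfalso
    obtain ⟨l, hl1, hl2⟩ := Submodule.exists_le_ker_of_notMem hg
    obtain ⟨C, hC⟩ := exists_trace l
    have h1 : ∀ t, ((g * t - t * g) * C).trace = 0 := by
      intro t
      rw [← hφ, ← hC]
      exact hl2 ⟨t, rfl⟩
    have h2 : g * C = C * g := by
      have h3 : C * g - g * C = 0 := by
        apply Matrix.ext_iff_trace_mul_left.2
        intro t
        rw [mul_zero, Matrix.trace_zero]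
        have := h1 t
        rw [sub_mul, Matrix.trace_sub, mul_assoc g t C, Matrix.trace_mul_comm g, mul_assoc t g C,
          mul_assoc t C g] at this
        rw [mul_sub, Matrix.trace_sub]
        exact this
      exact (sub_eq_zero.1 h3).symm
    apply hl1
    rw [hC]
    apply h
    rw [mul_assoc, ← h2]

end Trace

end Cfsg.Agent.H156.Art
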