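import Mathlib
import Cfsg.Agent.H156.Art

set_option autoImplicit false

/-!
# Stabilisers of Artin-Schreier elements, the field `F[X]/(X³-X-c)` (helper156)
-/

namespace Cfsg.Agent.H156.Shift

open Polynomial Module Cfsg.Agent.H156.Art

section Stab

variable {F : Type*} [Field F] [CharP F 3] {R : Type*} [Ring R] [Algebra F R] {G : Type*} [Group G]

variable (F) in
/-- The elements acting on `t` as a shift. -/
def shiftStab (ρ : G →* R) (t : R) : Subgroup G where
  carrier := {x | ∃ i : F, i ^ 3 = i ∧ ρ x * t = (t + algebraMap F R i) * ρ x}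
  mul_mem' {a b} := by
    rintro ⟨i, hi, hi'⟩ ⟨j, hj, hj'⟩
    have hp : Fact (Nat.Prime 3) := ⟨Nat.prime_three⟩
    refine ⟨i + j, by rw [add_pow_char, hi, hj], ?_⟩
    calc ρ (a * b) * t = ρ a * (ρ b * t) := by rw [map_mul, mul_assoc]
      _ = (ρ a * t + ρ a * algebraMap F R j) * ρ b := by rw [hj']; noncomm_ring
      _ = ((t + algebraMap F R i) * ρ a + algebraMap F R j * ρ a) * ρ b := by
          rw [hi', ← Algebra.commutes j (ρ a)]
      _ = (t + algebraMap F R (i + j)) * ρ (a * b) := by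
          rw [map_add, map_mul]; noncomm_ring
  one_mem' := ⟨0, by ring, by simp⟩
  inv_mem' {a} := by
    rintro ⟨i, hi, hi'⟩
    refine ⟨-i, by rw [neg_pow, hi]; ring, ?_⟩
    have e1 : ρ a * ρ a⁻¹ = 1 := by rw [← map_mul, mul_inv_cancel, map_one]
    have e2 : ρ a⁻¹ * ρ a = 1 := by rw [← map_mul, inv_mul_cancel, map_one]
    have h1 : ρ a⁻¹ * (ρ a * t) * ρ a⁻¹ = ρ a⁻¹ * ((t + algebraMap F R i) * ρ a) * ρ a⁻¹ := by rw [hi']
    have h2 : ρ a⁻¹ * (ρ a * t) * ρ a⁻¹ = t * ρ a⁻¹ := by rw [← mul_assoc, e2, one_mul]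
    have h3 : ρ a⁻¹ * ((t + algebraMap F R i) * ρ a) * ρ a⁻¹ =
        ρ a⁻¹ * t + algebraMap F R i * ρ a⁻¹ := by
      rw [mul_assoc (ρ a⁻¹), mul_assoc (t + _), e1, mul_one, mul_add, Algebra.commutes i (ρ a⁻¹)]
    rw [h2, h3] at h1
    rw [map_neg, add_mul, h1]
    noncomm_ring

theorem mem_shiftStab {ρ : G →* R} {t : R} {x : G} :
    x ∈ shiftStab F ρ t ↔ ∃ i : F, i ^ 3 = i ∧ ρ x * t = (t + algebraMap F R i) * ρ x := Iff.rfl

/-- Conjugation into the stabiliser. -/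
theorem conj_mem {ρ : G →* R} {t t0 : R} {g x : G} {i : F} (hi : i ^ 3 = i)
    (hg : ρ g * t = (t + algebraMap F R i) * ρ g) (hx : ρ x * t = t0 * ρ x) :
    x * g * x⁻¹ ∈ shiftStab F ρ t0 := by
  refine ⟨i, hi, ?_⟩
  have e1 : ρ x * ρ x⁻¹ = 1 := by rw [← map_mul, mul_inv_cancel, map_one]
  have e2 : ρ x⁻¹ * ρ x = 1 := by rw [← map_mul, inv_mul_cancel, map_one]
  have hx' : ρ x⁻¹ * t0 = t * ρ x⁻¹ := by
    have h1 : ρ x⁻¹ * (ρ x * t) * ρ x⁻¹ = ρ x⁻¹ * (t0 * ρ x) * ρ x⁻¹ := by rw [hx]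
    rw [← mul_assoc, e2, one_mul, mul_assoc (ρ x⁻¹), mul_assoc t0, e1, mul_one] at h1
    exact h1.symm
  calc ρ (x * g * x⁻¹) * t0 = ρ x * ρ g * (ρ x⁻¹ * t0) := by rw [map_mul, map_mul, mul_assoc]
    _ = ρ x * (ρ g * t) * ρ x⁻¹ := by rw [hx']; noncomm_ring
    _ = (ρ x * t + ρ x * algebraMap F R i) * ρ g * ρ x⁻¹ := by rw [hg]; noncomm_ring
    _ = (t0 * ρ x + algebraMap F R i * ρ x) * ρ g * ρ x⁻¹ := by
        rw [hx, ← Algebra.commutes i (ρ x)]
    _ = (t0 + algebraMap F R i) * ρ (x * g * x⁻¹) := by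
        rw [map_mul, map_mul]; noncomm_ring

end Stab

section Field

variable {F : Type*} [Field F] {R : Type*} [Ring R] [Algebra F R] {c : F}

/-- the polynomial -/
noncomputable abbrev pol (c : F) : F[X] := X ^ 3 - X - C c

theorem pol_ne_zero (c : F) : pol c ≠ 0 := by
  intro h
  have := natDegree_AS c
  rw [show (X ^ 3 - X - C c : F[X]) = pol c from rfl, h] at this
  simp at this

/-- the representation of the field attached to `t` -/
noncomputable def rep {t : R} (ht : t ^ 3 - t = algebraMap F R c) : AdjoinRoot (pol c) →ₐ[F] R :=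
  Ideal.Quotient.liftₐ (Ideal.span {pol c}) (aeval t) (by
    intro a ha
    obtain ⟨b, rfl⟩ := Ideal.mem_span_singleton.1 ha
    rw [map_mul]
    have : aeval t (pol c) = 0 := by
      rw [pol, map_sub, map_sub, map_pow, aeval_X, aeval_C, ht, sub_self]
    rw [this, zero_mul])

theorem rep_mk {t : R} (ht : t ^ 3 - t = algebraMap F R c) (P : F[X]) :
    rep ht (AdjoinRoot.mk (pol c) P) = aeval t P := rfl

theorem rep_root {t : R} (ht : t ^ 3 - t = algebraMap F R c) :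
    rep ht (AdjoinRoot.root (pol c)) = t := by
  rw [AdjoinRoot.root, rep_mk, aeval_X]

/-- the basis `1, θ, θ²` -/
noncomputable def bas (c : F) : Basis (Fin 3) F (AdjoinRoot (pol c)) :=
  (AdjoinRoot.powerBasis (pol_ne_zero c)).basis.reindex (finCongr (natDegree_AS c))

theorem bas_apply (k : Fin 3) : bas c k = AdjoinRoot.root (pol c) ^ (k : ℕ) := by
  rw [bas, Basis.reindex_apply, PowerBasis.coe_basis]
  rfl

theorem finrank_field (c : F) : finrank F (AdjoinRoot (pol c)) = 3 := by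
  rw [Module.finrank_eq_card_basis (bas c), Fintype.card_fin]

end Field

end Cfsg.Agent.H156.Shift
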