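import Mathlib
import Cfsg.Agent.Nodes.WittRGD
import Cfsg.Agent.H162.GaussReg

/-!
The homomorphism `GL_k(F) →* GL(V)` of a Witt frame for a bilinear form (`σ = 1`) and an injection
`ι : Fin k → Fin n` (for S2523, tasks 268-270).

* `Phi Fr ι hι : GL (Fin k) F →* (V ≃ₗ[F] V)` : `A` on the `e_{ι i}`, the transposed inverse on the `f_{ι i}`, the
  identity on the rest of the frame and on `V0`;
* `Phi_transvection` : transvections go to the root elements `X (ι i, true) (ι j, false) t`;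
* `isIso_Phi`, `conj_diag`, `conj_swap`.
-/

set_option autoImplicit false

namespace Cfsg.Agent.H156.SqPhi

open Matrix
open Cfsg.Agent.TitsThree.Siegel Cfsg.Agent.TitsThree.WittFrame Cfsg.Agent.TitsThree.WittWeyl
open Cfsg.Agent.H162.GaussSL Cfsg.Agent.H162.GaussReg

variable {F : Type*} [Field F] {V : Type*} [AddCommGroup V] [Module F V] {H : HForm F V} {n k : ℕ}
  (Fr : Frame H (Fin n)) (ι : Fin k → Fin n)

/-- the coordinates on the `e_{ι i}` -/
def cT : V →ₗ[F] (Fin k → F) where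
  toFun v i := H.h v (Fr.b (ι i, false))
  map_add' v w := by funext i; exact H.add_left _ _ _
  map_smul' c v := by funext i; exact H.smul_left _ _ _

/-- the coordinates on the `f_{ι i}` -/
def cF : V →ₗ[F] (Fin k → F) where
  toFun v i := H.ε⁻¹ * H.h v (Fr.b (ι i, true))
  map_add' v w := by funext i; simp only [Pi.add_apply]; rw [H.add_left, mul_add]
  map_smul' c v := by
    funext i
    simp only [Pi.smul_apply, smul_eq_mul, RingHom.id_apply]
    rw [H.smul_left]; ring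

/-- the combinations of the `e_{ι i}` -/
def eT : (Fin k → F) →ₗ[F] V := Fintype.linearCombination F fun i => Fr.b (ι i, true)

/-- the combinations of the `f_{ι i}` -/
def eF : (Fin k → F) →ₗ[F] V := Fintype.linearCombination F fun i => Fr.b (ι i, false)

theorem cT_apply (v : V) (i : Fin k) : cT Fr ι v i = H.h v (Fr.b (ι i, false)) := rfl
theorem cF_apply (v : V) (i : Fin k) : cF Fr ι v i = H.ε⁻¹ * H.h v (Fr.b (ι i, true)) := rfl
theorem eT_apply (x : Fin k → F) : eT Fr ι x = ∑ i, x i • Fr.b (ι i, true) := rfl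
theorem eF_apply (x : Fin k → F) : eF Fr ι x = ∑ i, x i • Fr.b (ι i, false) := rfl

theorem h_sum_left {α : Type*} (s : Finset α) (f : α → V) (w : V) :
    H.h (∑ a ∈ s, f a) w = ∑ a ∈ s, H.h (f a) w := by
  classical
  induction s using Finset.induction_on with
  | empty => simp [H.zero_left]
  | insert a s ha ih => rw [Finset.sum_insert ha, Finset.sum_insert ha, H.add_left, ih]

theorem h_sum_right {α : Type*} (s : Finset α) (f : α → V) (w : V) :
    H.h w (∑ a ∈ s, f a) = ∑ a ∈ s, H.h w (f a) := by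
  classical
  induction s using Finset.induction_on with
  | empty => simp [H.zero_right]
  | insert a s ha ih => rw [Finset.sum_insert ha, Finset.sum_insert ha, H.add_right, ih]

theorem hb_tt (i j : Fin n) : H.h (Fr.b (i, true)) (Fr.b (j, true)) = 0 := by rw [Fr.hb]; simp
theorem hb_ff (i j : Fin n) : H.h (Fr.b (i, false)) (Fr.b (j, false)) = 0 := by rw [Fr.hb]; simp
theorem hb_tf (i j : Fin n) : H.h (Fr.b (i, true)) (Fr.b (j, false)) = if i = j then 1 else 0 := by rw [Fr.hb]; simp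
theorem hb_ft (i j : Fin n) : H.h (Fr.b (i, false)) (Fr.b (j, true)) = if i = j then H.ε else 0 := by
  rw [Fr.hb]; simp

variable {ι} (hι : Function.Injective ι)

include hι in
theorem cT_eT (x : Fin k → F) : cT Fr ι (eT Fr ι x) = x := by
  funext i
  rw [cT_apply, eT_apply, h_sum_left, Finset.sum_eq_single i]
  · rw [H.smul_left, hb_tf, if_pos rfl, mul_one]
  · intro j _ hj
    rw [H.smul_left, hb_tf, if_neg (fun h => hj (hι h)), mul_zero]
  · intro h; exact absurd (Finset.mem_univ _) h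

theorem cT_eF (x : Fin k → F) : cT Fr ι (eF Fr ι x) = 0 := by
  funext i
  rw [cT_apply, eF_apply, h_sum_left]
  exact Finset.sum_eq_zero fun j _ => by rw [H.smul_left, hb_ff, mul_zero]

theorem cF_eT (x : Fin k → F) : cF Fr ι (eT Fr ι x) = 0 := by
  funext i
  rw [cF_apply, eT_apply, h_sum_left, Finset.sum_eq_zero fun j _ => by rw [H.smul_left, hb_tt, mul_zero]]
  exact mul_zero _

include hι in
theorem cF_eF (x : Fin k → F) : cF Fr ι (eF Fr ι x) = x := by
  funext i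
  rw [cF_apply, eF_apply, h_sum_left, Finset.sum_eq_single i]
  · rw [H.smul_left, hb_ft, if_pos rfl]
    have := H.ε_ne
    field_simp
  · intro j _ hj
    rw [H.smul_left, hb_ft, if_neg (fun h => hj (hι h)), mul_zero]
  · intro h; exact absurd (Finset.mem_univ _) h

variable (ι)

/-- the linear map with the matrices `A` on the `e`, `B` on the `f` -/
def LM (A B : Matrix (Fin k) (Fin k) F) : V →ₗ[F] V :=
  LinearMap.id + (eT Fr ι).comp ((A - 1).mulVecLin.comp (cT Fr ι)) + (eF Fr ι).comp ((B - 1).mulVecLin.comp (cF Fr ι))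

theorem LM_apply (A B : Matrix (Fin k) (Fin k) F) (v : V) :
    LM Fr ι A B v = v + eT Fr ι ((A - 1) *ᵥ cT Fr ι v) + eF Fr ι ((B - 1) *ᵥ cF Fr ι v) := rfl

variable {ι}

include hι in
theorem cT_LM (A B : Matrix (Fin k) (Fin k) F) (v : V) : cT Fr ι (LM Fr ι A B v) = A *ᵥ cT Fr ι v := by
  rw [LM_apply, map_add, map_add, cT_eT Fr hι, cT_eF, add_zero, sub_mulVec, one_mulVec]
  abel

include hι in
theorem cF_LM (A B : Matrix (Fin k) (Fin k) F) (v : V) : cF Fr ι (LM Fr ι A B v) = B *ᵥ cF Fr ι v := by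
  rw [LM_apply, map_add, map_add, cF_eF Fr hι, cF_eT, add_zero, sub_mulVec, one_mulVec]
  abel

include hι in
theorem LM_mul (A B A' B' : Matrix (Fin k) (Fin k) F) (v : V) :
    LM Fr ι A B (LM Fr ι A' B' v) = LM Fr ι (A * A') (B * B') v := by
  rw [LM_apply Fr ι A B, cT_LM Fr hι, cF_LM Fr hι, LM_apply Fr ι A' B', LM_apply Fr ι (A * A') (B * B')]
  have h1 : (A - 1) *ᵥ (A' *ᵥ cT Fr ι v) = (A * A' - 1) *ᵥ cT Fr ι v - (A' - 1) *ᵥ cT Fr ι v := by
    rw [mulVec_mulVec, ← sub_mulVec]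
    congr 1
    noncomm_ring
  have h2 : (B - 1) *ᵥ (B' *ᵥ cF Fr ι v) = (B * B' - 1) *ᵥ cF Fr ι v - (B' - 1) *ᵥ cF Fr ι v := by
    rw [mulVec_mulVec, ← sub_mulVec]
    congr 1
    noncomm_ring
  rw [h1, h2, map_sub, map_sub]
  abel

/-- the homomorphism to the endomorphisms -/
def PhiEnd : GL (Fin k) F →* Module.End F V where
  toFun A := LM Fr ι A.1 (A⁻¹).1ᵀ
  map_one' := by
    ext v
    rw [LM_apply]
    simp
  map_mul' A B := by
    ext v
    rw [Module.End.mul_apply, LM_mul Fr hι, ← transpose_mul, _root_.mul_inv_rev]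
    rfl

/-- the homomorphism `GL_k(F) →* GL(V)` -/
def Phi : GL (Fin k) F →* (V ≃ₗ[F] V) :=
  (LinearMap.GeneralLinearGroup.generalLinearEquiv F V).toMonoidHom.comp (PhiEnd Fr hι).toHomUnits

theorem Phi_apply (A : GL (Fin k) F) (v : V) :
    Phi Fr hι A v = v + eT Fr ι ((A.1 - 1) *ᵥ cT Fr ι v) + eF Fr ι (((A⁻¹).1ᵀ - 1) *ᵥ cF Fr ι v) := rfl

theorem Phi_V0 (A : GL (Fin k) F) {w : V} (hw : w ∈ Fr.V0) : Phi Fr hι A w = w := by
  have h1 : cT Fr ι w = 0 := by funext i; exact Fr.h0' _ hw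
  have h2 : cF Fr ι w = 0 := by funext i; rw [cF_apply, Fr.h0' _ hw, mul_zero]; rfl
  rw [Phi_apply, h1, h2, mulVec_zero, mulVec_zero, map_zero, map_zero, add_zero, add_zero]


/-! ### Pairings -/

section Sigma

variable (hσ : ∀ c, H.σ c = c)

include hσ

theorem eps_sq : H.ε * H.ε = 1 := by
  have := H.ε_mul
  rwa [hσ] at this

theorem eps_inv : H.ε⁻¹ = H.ε := inv_eq_of_mul_eq_one_left (eps_sq hσ)

theorem h_eT (v : V) (x : Fin k → F) : H.h v (eT Fr ι x) = H.ε * (x ⬝ᵥ cF Fr ι v) := by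
  rw [eT_apply, h_sum_right, dotProduct, Finset.mul_sum]
  refine Finset.sum_congr rfl fun i _ => ?_
  rw [H.smul_right, hσ, cF_apply]
  have := H.ε_ne
  field_simp

theorem h_eF (v : V) (x : Fin k → F) : H.h v (eF Fr ι x) = x ⬝ᵥ cT Fr ι v := by
  rw [eF_apply, h_sum_right, dotProduct]
  refine Finset.sum_congr rfl fun i _ => ?_
  rw [H.smul_right, hσ, cT_apply]

theorem eT_h (x : Fin k → F) (w : V) : H.h (eT Fr ι x) w = x ⬝ᵥ cF Fr ι w := by
  rw [H.swap, hσ, h_eT Fr hσ, ← mul_assoc, eps_sq hσ, one_mul]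

theorem eF_h (x : Fin k → F) (w : V) : H.h (eF Fr ι x) w = H.ε * (x ⬝ᵥ cT Fr ι w) := by
  rw [H.swap, hσ, h_eF Fr hσ]

omit hσ in
theorem dot_aux {A B : Matrix (Fin k) (Fin k) F} (hAB : Aᵀ * B = 1) (a b : Fin k → F) :
    ((A - 1) *ᵥ a) ⬝ᵥ b + a ⬝ᵥ ((B - 1) *ᵥ b) + ((A - 1) *ᵥ a) ⬝ᵥ ((B - 1) *ᵥ b) = 0 := by
  have h1 : (A *ᵥ a) ⬝ᵥ (B *ᵥ b) = a ⬝ᵥ b := by
    rw [dotProduct_mulVec, ← vecMul_transpose, vecMul_vecMul, hAB, vecMul_one]
  simp only [sub_mulVec, one_mulVec, sub_dotProduct, dotProduct_sub, h1]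
  ring

/-- isometry -/
theorem isIso_Phi (A : GL (Fin k) F) : H.IsIso (Phi Fr hι A) := by
  intro v w
  rw [Phi_apply, Phi_apply]
  have hAB : A.1ᵀ * (A⁻¹).1ᵀ = 1 := by
    rw [← transpose_mul, ← Units.val_mul, inv_mul_cancel, Units.val_one, transpose_one]
  simp only [H.add_left, H.add_right, h_eT Fr hσ, h_eF Fr hσ, eT_h Fr hσ, eF_h Fr hσ, cT_eT Fr hι, cT_eF, cF_eT,
    cF_eF Fr hι, dotProduct_zero, mul_zero, add_zero]
  have h1 := dot_aux hAB (cT Fr ι v) (cF Fr ι w)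
  have h2 := dot_aux hAB (cT Fr ι w) (cF Fr ι v)
  rw [dotProduct_comm (cT Fr ι v),
    dotProduct_comm ((A.1 - 1) *ᵥ cT Fr ι v) ((((A⁻¹).1ᵀ - 1) *ᵥ cF Fr ι w))] at h1
  rw [dotProduct_comm (cT Fr ι w)] at h2
  linear_combination h1 + H.ε * h2

/-- transvections go to root elements -/
theorem Phi_transvection {i j : Fin k} (hij : i ≠ j) (c : F) :
    Phi Fr hι (SpecialLinearGroup.transvection hij c : GL (Fin k) F) = Fr.X (ι i, true) (ι j, false) c := by
  have hne : ((ι i, true) : Fin n × Bool).1 ≠ ((ι j, false) : Fin n × Bool).1 := fun h => hij (hι h)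
  ext v
  rw [X_apply Fr hne, Phi_apply]
  have h1 : ((SpecialLinearGroup.transvection hij c : GL (Fin k) F)).1 - 1 = single i j c := by
    change (1 + single i j c) - 1 = _
    rw [add_sub_cancel_left]
  have h2 : ((SpecialLinearGroup.transvection hij c : GL (Fin k) F)⁻¹).1 = 1 + single i j (-c) := by
    refine Units.inv_eq_of_mul_eq_one_right ?_
    exact (transvection_mul_transvection_same i j hij c (-c)).trans (by rw [add_neg_cancel, transvection_zero])
  rw [h1, h2, transpose_add, transpose_one, add_sub_cancel_left, transpose_single, single_mulVec, single_mulVec]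
  have h3 : ∀ (i : Fin k) (a : F), eT Fr ι (Pi.single i a) = a • Fr.b (ι i, true) := by
    intro i a
    rw [eT, Fintype.linearCombination_apply_single]
  have h4 : ∀ (i : Fin k) (a : F), eF Fr ι (Pi.single i a) = a • Fr.b (ι i, false) := by
    intro i a
    rw [eF, Fintype.linearCombination_apply_single]
  have e1 : Fr.η (ι j, false) = 1 := rfl
  have e2 := eps_inv hσ
  have e3 := eps_sq hσ
  rw [← Pi.single, ← Pi.single, h3, h4, cT_apply, cF_apply, hσ, Frame.sc, e1, hσ, e2]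
  have e4 : -(H.ε * -(H.ε * 1 * c) * H.h v (Fr.b (ι j, false))) = c * H.h v (Fr.b (ι j, false)) := by
    linear_combination (c * H.h v (Fr.b (ι j, false))) * e3
  rw [sub_eq_add_neg, ← neg_smul, e4]
  have e5 : H.h v (Fr.b (ι i, true)) * -(H.ε * 1 * c) = -c * (H.ε * H.h v (Fr.b (ι i, true))) := by ring
  rw [e5]
  abel

/-! ### Conjugation -/

omit hσ in
/-- diagonal matrices -/
def DD (l : Fin k → Fˣ) : GL (Fin k) F where
  val := diagonal fun i => (l i : F)
  inv := diagonal fun i => ((l i)⁻¹ : Fˣ)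
  val_inv := by rw [diagonal_mul_diagonal, ← diagonal_one]; congr 1; funext i; exact (l i).mul_inv
  inv_val := by rw [diagonal_mul_diagonal, ← diagonal_one]; congr 1; funext i; exact (l i).inv_mul

omit hσ in
theorem g_eT {g : V ≃ₗ[F] V} {l : Fin k → F} {b : Fin k → V} (h : ∀ i, g (Fr.b (ι i, true)) = l i • b i)
    (x : Fin k → F) : g (eT Fr ι x) = Fintype.linearCombination F b (diagonal l *ᵥ x) := by
  rw [eT_apply, map_sum, Fintype.linearCombination_apply]
  refine Finset.sum_congr rfl fun i _ => ?_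
  rw [map_smul, h, smul_smul, mulVec_diagonal, mul_comm]

omit hσ in
theorem g_eF {g : V ≃ₗ[F] V} {l : Fin k → F} {b : Fin k → V} (h : ∀ i, g (Fr.b (ι i, false)) = l i • b i)
    (x : Fin k → F) : g (eF Fr ι x) = Fintype.linearCombination F b (diagonal l *ᵥ x) := by
  rw [eF_apply, map_sum, Fintype.linearCombination_apply]
  refine Finset.sum_congr rfl fun i _ => ?_
  rw [map_smul, h, smul_smul, mulVec_diagonal, mul_comm]

omit hσ in
theorem h_inv {g : V ≃ₗ[F] V} (hg : H.IsIso g) (v w : V) : H.h (g⁻¹ v) w = H.h v (g w) := by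
  have := hg (g⁻¹ v) w
  rw [← this]
  congr 1
  exact g.apply_symm_apply v

/-- conjugation by diagonal isometries -/
theorem conj_diag {g : V ≃ₗ[F] V} (hg : H.IsIso g) (l : Fin k → Fˣ)
    (ht : ∀ i, g (Fr.b (ι i, true)) = (l i : F) • Fr.b (ι i, true))
    (hf : ∀ i, g (Fr.b (ι i, false)) = ((l i)⁻¹ : Fˣ) • Fr.b (ι i, false)) (A : GL (Fin k) F) :
    g * Phi Fr hι A * g⁻¹ = Phi Fr hι (DD l * A * (DD l)⁻¹) := by
  have hT : ∀ v, cT Fr ι (g⁻¹ v) = diagonal (fun i => (((l i)⁻¹ : Fˣ) : F)) *ᵥ cT Fr ι v := by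
    intro v
    funext i
    rw [cT_apply, h_inv hg, hf, mulVec_diagonal, Units.smul_def, H.smul_right, hσ, cT_apply]
  have hF : ∀ v, cF Fr ι (g⁻¹ v) = diagonal (fun i => (l i : F)) *ᵥ cF Fr ι v := by
    intro v
    funext i
    rw [cF_apply, h_inv hg, ht, mulVec_diagonal, H.smul_right, hσ, cF_apply]
    ring
  ext v
  change g (Phi Fr hι A (g⁻¹ v)) = _
  rw [Phi_apply, Phi_apply, map_add, map_add, hT, hF, g_eT Fr ht, g_eF Fr (l := fun i => ((l i)⁻¹ : Fˣ)) hf]
  have h1 : g (g⁻¹ v) = v := g.apply_symm_apply v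
  have e0 : (DD l).1 = diagonal (fun i => (l i : F)) := rfl
  have e1 : ((DD l)⁻¹).1 = diagonal (fun i => (((l i)⁻¹ : Fˣ) : F)) := rfl
  have e2 : ((DD l * A * (DD l)⁻¹)⁻¹).1 = (DD l).1 * (A⁻¹).1 * ((DD l)⁻¹).1 := by
    rw [_root_.mul_inv_rev, _root_.mul_inv_rev, inv_inv, ← mul_assoc]
    rfl
  have e3 : (DD l * A * (DD l)⁻¹).1 = (DD l).1 * A.1 * ((DD l)⁻¹).1 := rfl
  have e4 : (DD l).1 * ((DD l)⁻¹).1 = 1 := by rw [← Units.val_mul, mul_inv_cancel, Units.val_one]
  have e5 : ((DD l)⁻¹).1 * (DD l).1 = 1 := by rw [← Units.val_mul, inv_mul_cancel, Units.val_one]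
  rw [h1, e2, e3]
  rw [← e0, ← e1]
  congr 1
  · congr 1
    change eT Fr ι _ = _
    congr 1
    rw [mulVec_mulVec, mulVec_mulVec]
    congr 1
    rw [mul_sub, mul_one, sub_mul, e4]
  · change eF Fr ι _ = _
    congr 1
    have e6 : ((DD l).1)ᵀ = (DD l).1 := by rw [e0, diagonal_transpose]
    have e7 : (((DD l)⁻¹).1)ᵀ = ((DD l)⁻¹).1 := by rw [e1, diagonal_transpose]
    rw [mulVec_mulVec, mulVec_mulVec]
    congr 1
    rw [transpose_mul, transpose_mul, e6, e7, mul_sub, mul_one, sub_mul, e5, mul_assoc]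

omit hσ in
/-- the transposed inverse -/
def ti (A : GL (Fin k) F) : GL (Fin k) F where
  val := (A⁻¹).1ᵀ
  inv := A.1ᵀ
  val_inv := by rw [← transpose_mul, ← Units.val_mul, mul_inv_cancel, Units.val_one, transpose_one]
  inv_val := by rw [← transpose_mul, ← Units.val_mul, inv_mul_cancel, Units.val_one, transpose_one]

/-- conjugation by isometries exchanging the `e_{ι i}` and the `f_{ι i}` -/
theorem conj_swap {g : V ≃ₗ[F] V} (hg : H.IsIso g) (l : Fin k → Fˣ)
    (ht : ∀ i, g (Fr.b (ι i, true)) = (l i : F) • Fr.b (ι i, false))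
    (hf : ∀ i, g (Fr.b (ι i, false)) = (H.ε * ((l i)⁻¹ : Fˣ)) • Fr.b (ι i, true)) (A : GL (Fin k) F) :
    g * Phi Fr hι A * g⁻¹ = Phi Fr hι ((DD l)⁻¹ * ti A * DD l) := by
  have hε := eps_sq hσ
  have hε' := eps_inv hσ
  have hT : ∀ v, cT Fr ι (g⁻¹ v) = diagonal (fun i => (((l i)⁻¹ : Fˣ) : F)) *ᵥ cF Fr ι v := by
    intro v
    funext i
    rw [cT_apply, h_inv hg, hf, mulVec_diagonal, H.smul_right, hσ, cF_apply, hε']
    ring
  have hF : ∀ v, cF Fr ι (g⁻¹ v) = diagonal (fun i => H.ε * (l i : F)) *ᵥ cT Fr ι v := by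
    intro v
    funext i
    rw [cF_apply, h_inv hg, ht, mulVec_diagonal, H.smul_right, hσ, cT_apply, hε']
    ring
  ext v
  change g (Phi Fr hι A (g⁻¹ v)) = _
  rw [Phi_apply, Phi_apply, map_add, map_add, hT, hF, g_eT Fr ht, g_eF Fr hf]
  have h1 : g (g⁻¹ v) = v := g.apply_symm_apply v
  have e0 : (DD l).1 = diagonal (fun i => (l i : F)) := rfl
  have e1 : ((DD l)⁻¹).1 = diagonal (fun i => (((l i)⁻¹ : Fˣ) : F)) := rfl
  have e2 : (((DD l)⁻¹ * ti A * (DD l))⁻¹).1 = ((DD l)⁻¹).1 * A.1ᵀ * (DD l).1 := by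
    rw [_root_.mul_inv_rev, _root_.mul_inv_rev, inv_inv, ← mul_assoc]
    rfl
  have e3 : ((DD l)⁻¹ * ti A * DD l).1 = ((DD l)⁻¹).1 * (A⁻¹).1ᵀ * (DD l).1 := rfl
  have e4 : (DD l).1 * ((DD l)⁻¹).1 = 1 := by rw [← Units.val_mul, mul_inv_cancel, Units.val_one]
  have e5 : ((DD l)⁻¹).1 * (DD l).1 = 1 := by rw [← Units.val_mul, inv_mul_cancel, Units.val_one]
  have e6 : ((DD l).1)ᵀ = (DD l).1 := by rw [e0, diagonal_transpose]
  have e7 : (((DD l)⁻¹).1)ᵀ = ((DD l)⁻¹).1 := by rw [e1, diagonal_transpose]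
  have e8 : diagonal (fun i => H.ε * (((l i)⁻¹ : Fˣ) : F)) = H.ε • ((DD l)⁻¹).1 := by
    rw [e1, ← diagonal_smul]; rfl
  have e9 : diagonal (fun i => H.ε * (l i : F)) = H.ε • (DD l).1 := by
    rw [e0, ← diagonal_smul]; rfl
  rw [h1, e2, e3, e8, e9, ← e0, ← e1, add_assoc, add_assoc]
  congr 1
  rw [add_comm]
  congr 1
  · change eT Fr ι _ = _
    congr 1
    rw [mulVec_mulVec, mulVec_mulVec]
    congr 1
    rw [Matrix.smul_mul, Matrix.mul_smul, Matrix.smul_mul, smul_smul, hε, one_smul, mul_sub, mul_one, sub_mul, e5]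
  · change eF Fr ι _ = _
    congr 1
    rw [mulVec_mulVec, mulVec_mulVec]
    congr 1
    rw [transpose_mul, transpose_mul, e6, e7, transpose_transpose, mul_sub, mul_one, sub_mul, e4, mul_assoc]

end Sigma

end Cfsg.Agent.H156.SqPhi
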