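import Mathlib
import Cfsg.Agent.H156.SqPhi
import Cfsg.Agent.H162.GaussMain
import Cfsg.Agent.Nodes.WittRGDD

/-!
The block datum `GaussMain.Blk` of a Witt frame (for S2523, tasks 268-270).
-/

set_option autoImplicit false
set_option linter.unusedSectionVars false

namespace Cfsg.Agent.H156.SqBlk

open Matrix
open CoxeterSystem Cfsg.Agent.ChevalleyStructure.CoxeterGeom Cfsg.Agent.Tits.Roots Cfsg.Agent.Tits.Core
  Cfsg.Agent.Nodes.Reps Cfsg.Agent.Nodes.BNOf Cfsg.Agent.Nodes.StabComb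
  Cfsg.Agent.Nodes.RGDLib Cfsg.Agent.Nodes.Bruhat Cfsg.Agent.Nodes.OppDec Cfsg.Agent.Nodes.LeviDec
open Cfsg.Agent.Nodes
open Cfsg.Agent.TitsThree.Siegel Cfsg.Agent.TitsThree.WittFrame Cfsg.Agent.TitsThree.WittWeyl
open Cfsg.Agent.Nodes.WittRoot (XG)
open Cfsg.Agent.Nodes.WittRGD (Tor)
open Cfsg.Agent.H162.GaussSL Cfsg.Agent.H162.GaussReg Cfsg.Agent.H162.GaussLevi Cfsg.Agent.H162.GaussMain
open Cfsg.Agent.H156.SqPhi

variable {F : Type*} [Field F] {V : Type*} [AddCommGroup V] [Module F V] {H : HForm F V} {N k : ℕ}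
  {Fr : Frame H (Fin N)} {G0 : Subgroup (V ≃ₗ[F] V)}

theorem Phi_mem {ι : Fin k → Fin N} (hι : Function.Injective ι) (hσ : ∀ c, H.σ c = c)
    (hX : ∀ a b t, Fr.X a b t ∈ G0) (A : SpecialLinearGroup (Fin k) F) :
    Phi Fr hι (SpecialLinearGroup.toGL A) ∈ G0 := by
  have h1 : (⊤ : Subgroup (SpecialLinearGroup (Fin k) F)) ≤ G0.comap ((Phi Fr hι).comp SpecialLinearGroup.toGL) := by
    rw [← Cfsg.Agent.LieClassical.SLGen.closure_transvections, Subgroup.closure_le]
    rintro _ ⟨i, j, hij, c, rfl⟩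
    change Phi Fr hι (SpecialLinearGroup.transvection hij c : GL (Fin k) F) ∈ G0
    rw [Phi_transvection Fr hι hσ]
    exact hX _ _ _
  exact h1 (Subgroup.mem_top A)

/-- the homomorphism `SL_k(F) →* G0` -/
def phi {ι : Fin k → Fin N} (hι : Function.Injective ι) (hσ : ∀ c, H.σ c = c)
    (hX : ∀ a b t, Fr.X a b t ∈ G0) : SpecialLinearGroup (Fin k) F →* ↥G0 :=
  ((Phi Fr hι).comp SpecialLinearGroup.toGL).codRestrict G0 (Phi_mem hι hσ hX)

theorem coe_phi {ι : Fin k → Fin N} (hι : Function.Injective ι) (hσ : ∀ c, H.σ c = c)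
    (hX : ∀ a b t, Fr.X a b t ∈ G0) (A : SpecialLinearGroup (Fin k) F) :
    ((phi hι hσ hX A : ↥G0) : V ≃ₗ[F] V) = Phi Fr hι (A : GL (Fin k) F) := rfl

theorem phi_transvection {ι : Fin k → Fin N} (hι : Function.Injective ι) (hσ : ∀ c, H.σ c = c)
    (hX : ∀ a b t, Fr.X a b t ∈ G0) {i j : Fin k} (hij : i ≠ j) (c : F) :
    ((phi hι hσ hX (SpecialLinearGroup.transvection hij c) : ↥G0) : V ≃ₗ[F] V) = Fr.X (ι i, true) (ι j, false) c := by
  rw [coe_phi, Phi_transvection Fr hι hσ]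

theorem transvection_mem_UT {i j : Fin k} (hij : i < j) (c : F) :
    SpecialLinearGroup.transvection hij.ne c ∈ UT k F := by
  rw [mem_UT]
  refine ⟨fun a b hab => ?_, fun a => ?_⟩
  · change ((1 : Matrix (Fin k) (Fin k) F) + single i j c) a b = 0
    rw [Matrix.add_apply, one_apply_ne hab.ne', single_apply, if_neg, add_zero]
    rintro ⟨rfl, rfl⟩
    exact absurd hab hij.not_gt
  · change ((1 : Matrix (Fin k) (Fin k) F) + single i j c) a a = 1
    rw [Matrix.add_apply, one_apply_eq, single_apply, if_neg, add_zero]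
    rintro ⟨rfl, h⟩
    exact hij.ne h.symm

theorem transvection_mem_LT {i j : Fin k} (hij : i < j) (c : F) :
    SpecialLinearGroup.transvection hij.ne' c ∈ LT k F := by
  rw [mem_LT]
  refine ⟨fun a b hab => ?_, fun a => ?_⟩
  · change ((1 : Matrix (Fin k) (Fin k) F) + single j i c) a b = 0
    rw [Matrix.add_apply, one_apply_ne hab.ne, single_apply, if_neg, add_zero]
    rintro ⟨rfl, rfl⟩
    exact absurd hab hij.not_gt
  · change ((1 : Matrix (Fin k) (Fin k) F) + single j i c) a a = 1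
    rw [Matrix.add_apply, one_apply_eq, single_apply, if_neg, add_zero]
    rintro ⟨rfl, h⟩
    exact hij.ne h

theorem DD_eq_dd (d : Fˣ) : DD (fun i : Fin (k + 1) => if i = 0 then d else 1) = dd k d := by
  apply Units.ext
  change diagonal _ = diagonal _
  congr 1
  funext i
  by_cases h : i = 0 <;> simp [h]

theorem ti_coe (A : SpecialLinearGroup (Fin k) F) : ti (A : GL (Fin k) F) = ((tr A)⁻¹ : SpecialLinearGroup (Fin k) F) := by
  rw [← tr_inv]
  apply Units.ext
  rfl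

variable {W : Type*} [Group W] {M : CoxeterMatrix (Fin N)}
  {cs : CoxeterSystem M W} {A : Fin N → Fin N → ℤ} {h : IsCartan M A} {rg : (Fin N → ℤ) → Subgroup (V ≃ₗ[F] V)}

/-- **The block datum of a Witt frame.** -/
theorem blk {ι : Fin (k + 2) → Fin N} (hι : Function.Injective ι) (hσ : ∀ c, H.σ c = c) {J : Set (Fin N)}
    (hX : ∀ a b t, Fr.X a b t ∈ G0) (hiso : ∀ g ∈ G0, H.IsIso g)
    (hJ1 : ∀ i j : Fin (k + 2), i ≠ j → ∃ r ∈ RootsJ cs h J, rg r = XG Fr (ι i, true) (ι j, false))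
    (hJ2 : ∀ r ∈ PosJ cs h J, ∃ i j : Fin (k + 2), i < j ∧ rg r = XG Fr (ι i, true) (ι j, false) ∧
      rg (-r) = XG Fr (ι j, true) (ι i, false))
    {s : V ≃ₗ[F] V} (hs : s ∈ G0) {a : Fˣ}
    (hst : ∀ i : Fin (k + 2), s (Fr.b (ι i, true)) = (a : F) • Fr.b (ι i, true))
    (hsf : ∀ i : Fin (k + 2), s (Fr.b (ι i, false)) = (a⁻¹ : Fˣ) • Fr.b (ι i, false))
    (hsT : s ∈ Tor Fr G0)
    (hfix : NoFix cs h (fun x => (rg x).subgroupOf G0) J ⟨s, hs⟩)
    (hgl : ∀ d : Fˣ, ∃ y ∈ G0, y * s * y⁻¹ = s ∧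
      (∀ i : Fin (k + 2), y (Fr.b (ι i, true)) = ((if i = 0 then d else 1 : Fˣ) : F) • Fr.b (ι i, true)) ∧
      ∀ i : Fin (k + 2), y (Fr.b (ι i, false)) = ((if i = 0 then d else 1 : Fˣ)⁻¹ : Fˣ) • Fr.b (ι i, false))
    (hinv : ∃ y ∈ G0, y * s * y⁻¹ = s⁻¹ ∧ ∃ l : Fin (k + 2) → Fˣ,
      (∀ i, y (Fr.b (ι i, true)) = (l i : F) • Fr.b (ι i, false)) ∧
      ∀ i, y (Fr.b (ι i, false)) = (H.ε * ((l i)⁻¹ : Fˣ)) • Fr.b (ι i, true)) :
    Blk cs h ((Tor Fr G0).subgroupOf G0) (fun x => (rg x).subgroupOf G0) J F k ⟨s, hs⟩ (phi hι hσ hX) := by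
  have hcomm : ∀ A, (⟨s, hs⟩ : ↥G0) * phi hι hσ hX A = phi hι hσ hX A * ⟨s, hs⟩ := by
    intro A
    have h1 := conj_diag Fr hι hσ (hiso s hs) (fun _ => a) hst hsf (A : GL (Fin (k + 2)) F)
    have h2 : DD (fun _ : Fin (k + 2) => a) * (A : GL (Fin (k + 2)) F) * (DD (fun _ : Fin (k + 2) => a))⁻¹ =
        (A : GL (Fin (k + 2)) F) := by
      rw [mul_inv_eq_iff_eq_mul]
      apply Units.ext
      change diagonal (fun _ => (a : F)) * A.1 = A.1 * diagonal (fun _ => (a : F))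
      ext i j
      rw [diagonal_mul, mul_diagonal, mul_comm]
    rw [h2] at h1
    apply Subtype.ext
    change s * Phi Fr hι (A : GL (Fin (k + 2)) F) = Phi Fr hι (A : GL (Fin (k + 2)) F) * s
    rwa [mul_inv_eq_iff_eq_mul] at h1
  refine ⟨Subgroup.mem_subgroupOf.2 hsT, hfix, hcomm, ?_, ?_, ?_, ?_, ?_⟩
  · intro A
    have h1 : (⊤ : Subgroup (SpecialLinearGroup (Fin (k + 2)) F)) ≤
        (LJ cs h ((Tor Fr G0).subgroupOf G0) (fun x => (rg x).subgroupOf G0) J).comap (phi hι hσ hX) := by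
      rw [← Cfsg.Agent.LieClassical.SLGen.closure_transvections, Subgroup.closure_le]
      rintro _ ⟨i, j, hij, c, rfl⟩
      obtain ⟨r, hr, e⟩ := hJ1 i j hij
      refine X_le_LJ hr ?_
      change (phi hι hσ hX (SpecialLinearGroup.transvection hij c) : ↥G0) ∈ (rg r).subgroupOf G0
      rw [Subgroup.mem_subgroupOf, phi_transvection, e]
      exact ⟨c, rfl⟩
    exact h1 (Subgroup.mem_top A)
  · intro r hr
    obtain ⟨i, j, hij, e, -⟩ := hJ2 r hr
    intro u hu
    rw [Subgroup.mem_subgroupOf, e] at hu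
    obtain ⟨t, ht⟩ := hu
    exact ⟨_, transvection_mem_UT hij t, Subtype.ext ((phi_transvection hι hσ hX hij.ne t).trans ht.symm)⟩
  · intro r hr
    obtain ⟨i, j, hij, -, e⟩ := hJ2 r hr
    intro u hu
    rw [Subgroup.mem_subgroupOf, e] at hu
    obtain ⟨t, ht⟩ := hu
    exact ⟨_, transvection_mem_LT hij t, Subtype.ext ((phi_transvection hι hσ hX hij.ne' t).trans ht.symm)⟩
  · refine gl_of_dd hcomm fun d => ?_
    obtain ⟨y, hy, hys, hyt, hyf⟩ := hgl d
    refine ⟨⟨y, hy⟩, Subtype.ext hys, fun A => Subtype.ext ?_⟩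
    have h1 := conj_diag Fr hι hσ (hiso y hy) _ hyt hyf (A : GL (Fin (k + 2)) F)
    rw [DD_eq_dd] at h1
    change y * Phi Fr hι (A : GL (Fin (k + 2)) F) * y⁻¹ = Phi Fr hι (gc (dd (k + 1) d) A : GL (Fin (k + 2)) F)
    rw [h1, coe_gc]
  · obtain ⟨y, hy, hys, l, hyt, hyf⟩ := hinv
    obtain ⟨g, hg⟩ := exists_tr_inv (K := F) (n := k + 2) (by omega)
    refine ⟨⟨y, hy⟩, Subtype.ext hys, (DD l)⁻¹ * g, Subtype.ext ?_⟩
    have h1 := conj_swap Fr hι hσ (hiso y hy) l hyt hyf (JS (k + 2) F : GL (Fin (k + 2)) F)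
    change y * Phi Fr hι (JS (k + 2) F : GL (Fin (k + 2)) F) * y⁻¹ =
      Phi Fr hι (gc ((DD l)⁻¹ * g) (JS (k + 2) F) : GL (Fin (k + 2)) F)
    rw [h1, ← gc_gc, ← hg, coe_gc, ti_coe, inv_inv]

/-! ### Combinatorics of signed indices -/

section Comb

open Cfsg.Agent.Nodes.TypeC (wt wt_apply)

variable {n : ℕ}

theorem sum_wt (a : Fin n × Bool) (m : Fin n) :
    ∑ l ∈ Finset.Iic m, wt a l = if a.1 ≤ m then (if a.2 then 1 else -1) else 0 := by
  rw [wt, Finset.sum_pi_single']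
  simp only [Finset.mem_Iic]

theorem comb_aux {a b : Fin n} (hab : a ≠ b) {k : ℕ}
    (h0 : ∀ m : Fin n, k ≤ (m : ℕ) + 1 → (if a ≤ m then (1 : ℤ) else 0) + (if b ≤ m then -1 else 0) = 0)
    (h1 : ∀ m : Fin n, 0 ≤ (if a ≤ m then (1 : ℤ) else 0) + (if b ≤ m then -1 else 0)) :
    a < b ∧ (b : ℕ) < k := by
  have hlt : a < b := by
    have h2 := h1 b
    rw [if_pos le_rfl] at h2
    by_contra h3
    rw [if_neg (fun h4 => h3 (lt_of_le_of_ne h4 hab))] at h2
    omega
  refine ⟨hlt, ?_⟩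
  by_contra hbk
  have hlt' : (a : ℕ) < b := hlt
  have hb := b.2
  have h2 := h0 ⟨b - 1, by omega⟩ (by simp only; omega)
  rw [if_pos (by rw [Fin.le_def]; simp only; omega), if_neg (by rw [Fin.le_def]; simp only; omega)] at h2
  omega

/-- the indices of a root with vanishing partial sums -/
theorem comb {a b : Fin n × Bool} (hab : a.1 ≠ b.1 ∨ a = b) {k : ℕ} (hk : 1 ≤ k) (hkn : k ≤ n)
    (h0 : ∀ m : Fin n, k ≤ (m : ℕ) + 1 → ∑ l ∈ Finset.Iic m, (wt a + wt b) l = 0)
    (h1 : ∀ m : Fin n, 0 ≤ ∑ l ∈ Finset.Iic m, (wt a + wt b) l) :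
    ∃ i j : Fin n, i < j ∧ (j : ℕ) < k ∧ ((a = (i, true) ∧ b = (j, false)) ∨ (a = (j, false) ∧ b = (i, true))) := by
  have key : ∀ m : Fin n, ∑ l ∈ Finset.Iic m, (wt a + wt b) l = (if a.1 ≤ m then (if a.2 then 1 else -1) else 0) +
      (if b.1 ≤ m then (if b.2 then 1 else -1) else 0) := by
    intro m
    simp only [Pi.add_apply, Finset.sum_add_distrib, sum_wt]
  obtain ⟨a, sa⟩ := a
  obtain ⟨b, sb⟩ := b
  have ha := h0 ⟨n - 1, by omega⟩ (by simp only; omega)
  have hle : ∀ c : Fin n, c ≤ ⟨n - 1, by omega⟩ := fun c => by rw [Fin.le_def]; simp only; omega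
  rw [key, if_pos (hle _), if_pos (hle _)] at ha
  have hs : sa ≠ sb := by
    rintro rfl
    cases sa <;> simp at ha
  have hab' : a ≠ b := by
    rcases hab with h | h
    · exact h
    · exact absurd (Prod.mk.inj h).2 hs
  simp only [key] at h0 h1
  cases sa <;> cases sb
  · exact absurd rfl hs
  · have h2 := comb_aux (a := b) (b := a) hab'.symm (fun m hm => by
      have := h0 m hm
      simp only [if_true, Bool.false_eq_true, if_false] at this
      rw [add_comm]; exact this) (fun m => by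
      have := h1 m
      simp only [if_true, Bool.false_eq_true, if_false] at this
      rw [add_comm]; exact this)
    exact ⟨b, a, h2.1, h2.2, Or.inr ⟨rfl, rfl⟩⟩
  · have h2 := comb_aux (a := a) (b := b) hab' (fun m hm => by
      have := h0 m hm
      simp only [if_true, Bool.false_eq_true, if_false] at this
      exact this) (fun m => by
      have := h1 m
      simp only [if_true, Bool.false_eq_true, if_false] at this
      exact this)
    exact ⟨a, b, h2.1, h2.2, Or.inl ⟨rfl, rfl⟩⟩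
  · exact absurd rfl hs

/-- the partial sums of `ε_i - ε_j` -/
theorem sum_sub {i j : Fin n} {k : ℕ} (hi : (i : ℕ) < k) (hj : (j : ℕ) < k) {m : Fin n} (hm : k ≤ (m : ℕ) + 1) :
    ∑ l ∈ Finset.Iic m, (wt (i, true) + wt (j, false)) l = 0 := by
  simp only [Pi.add_apply, Finset.sum_add_distrib, sum_wt]
  have h1 : i ≤ m := by rw [Fin.le_def]; omega
  have h2 : j ≤ m := by rw [Fin.le_def]; omega
  rw [if_pos h1, if_pos h2]
  simp

end Comb

/-! ### Type `C_n` -/

section TypeC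

open Cfsg.Agent.Nodes.TypeC
open Cfsg.Agent.Nodes.WittRoot (PG_ne XG_swap rg_eq)

variable {n : ℕ} {W : Type*} [Group W] {cs : CoxeterSystem (CoxeterMatrix.B n) W}
  {Fr : Frame H (Fin n)}

theorem psumC (x : Fin n → ℤ) (m : Fin n) :
    ∑ l ∈ Finset.Iic m, ee x l = (if (m : ℕ) + 1 < n then 1 else 2) * x m := by
  have h1 : ∀ k, ee x k = ∑ j, x j * bt j k := by
    intro k
    simp [ee, Finset.sum_apply]
  simp only [h1]
  rw [Finset.sum_comm]
  simp only [← Finset.mul_sum, sum_bt]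
  rw [Finset.sum_eq_single m]
  · simp only [if_true]
    split_ifs <;> ring
  · intro j _ hj
    simp [Ne.symm hj]
  · simp

/-- the nodes of the block -/
def JJ (n k : ℕ) : Set (Fin n) := {l | (l : ℕ) + 1 < k}

theorem hJ1C (hk : k + 2 ≤ n) (i j : Fin (k + 2)) (hij : i ≠ j) :
    ∃ r ∈ RootsJ cs (isCartan n) (JJ n (k + 2)),
      WittRoot.rg Fr r = XG Fr (Fin.castLE hk i, true) (Fin.castLE hk j, false) := by
  have hne : (Fin.castLE hk i) ≠ (Fin.castLE hk j) := fun h => hij (Fin.castLE_injective hk h)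
  obtain ⟨r, hr, e⟩ := rt_of_ok (cs := cs) (a := (Fin.castLE hk i, true)) (b := (Fin.castLE hk j, false)) (Or.inl hne)
  refine ⟨r, ⟨hr, fun l hl => ?_⟩, ?_⟩
  · have hl' : k + 2 ≤ (l : ℕ) + 1 := not_lt.1 hl
    have h1 := psumC r l
    rw [e, sum_sub (k := k + 2) (by simp) (by simp) hl'] at h1
    split_ifs at h1 <;> omega
  · rw [rg_eq Fr (Or.inl hne) e, PG_ne Fr hne]

theorem hJ2C (hk : k + 2 ≤ n) {r : Fin n → ℤ} (hr : r ∈ PosJ cs (isCartan n) (JJ n (k + 2))) :
    ∃ i j : Fin (k + 2), i < j ∧ WittRoot.rg Fr r = XG Fr (Fin.castLE hk i, true) (Fin.castLE hk j, false) ∧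
      WittRoot.rg Fr (-r) = XG Fr (Fin.castLE hk j, true) (Fin.castLE hk i, false) := by
  obtain ⟨hr1, hr2, hr3⟩ := hr
  obtain ⟨a, b, hab, e⟩ := exists_of_isRoot cs hr1
  obtain ⟨i, j, hij, hj, hc⟩ := comb hab (k := k + 2) (by omega) hk (fun m hm => by
      rw [← e, psumC, hr3 m (not_lt.2 hm), mul_zero]) (fun m => by
      rw [← e, psumC]
      have h5 : (0 : ℤ) ≤ r m := hr2 m
      split_ifs <;> omega)
  have hij' : (i : ℕ) < j := hij
  refine ⟨⟨i, by omega⟩, ⟨j, hj⟩, hij, ?_, ?_⟩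
  · have e' : ee r = wt (i, true) + wt (j, false) := by
      rcases hc with ⟨rfl, rfl⟩ | ⟨rfl, rfl⟩
      · exact e
      · exact e.trans (add_comm _ _)
    have h1 : ((i, true) : Fin n × Bool).1 ≠ ((j, false) : Fin n × Bool).1 := hij.ne
    have h2 := rg_eq Fr (Or.inl h1) e'
    rw [PG_ne Fr h1] at h2
    exact h2
  · have e' : ee (-r) = wt (j, true) + wt (i, false) := by
      rw [ee_neg, e]
      rcases hc with ⟨rfl, rfl⟩ | ⟨rfl, rfl⟩
      · have h1 := wt_ng (i, true)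
        have h2 := wt_ng (j, false)
        change wt (i, false) = _ at h1
        change wt (j, true) = _ at h2
        rw [h1, h2]; abel
      · have h1 := wt_ng (i, true)
        have h2 := wt_ng (j, false)
        change wt (i, false) = _ at h1
        change wt (j, true) = _ at h2
        rw [h1, h2]; abel
    have h1 : ((j, true) : Fin n × Bool).1 ≠ ((i, false) : Fin n × Bool).1 := hij.ne'
    have h2 := rg_eq Fr (Or.inl h1) e'
    rw [PG_ne Fr h1] at h2
    exact h2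

end TypeC

/-! ### Type `D_{n+2}` -/

section TypeD

open Cfsg.Agent.Nodes.TypeC (wt wt_ng)
open Cfsg.Agent.Nodes.TypeD
open Cfsg.Agent.Nodes.WittRoot (XG_swap)
open Cfsg.Agent.Nodes.WittRGDD (rg_eq)

variable {n : ℕ} {W : Type*} [Group W] {cs : CoxeterSystem (TypeD.M n) W}
  {Fr : Frame H (Fin (n + 2))}

theorem psumD (x : Fin (n + 2) → ℤ) (m : Fin (n + 2)) : ∑ k ∈ Finset.Iic m, ee x k =
      if (m : ℕ) < n then x m else if (m : ℕ) = n then x m + x (Fin.last (n + 1)) else 2 * x m := by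
  have h1 : ∀ k, ee x k = ∑ j, x j * bt j k := by
    intro k
    simp [ee, Finset.sum_apply]
  simp only [h1]
  rw [Finset.sum_comm]
  simp only [← Finset.mul_sum, sum_bt]
  have hm := m.2
  rw [Fin.sum_univ_castSucc]
  have h2 : ∀ i : Fin (n + 1), ((i.castSucc : Fin (n + 2)) : ℕ) + 1 < n + 2 := fun i => by
    have := i.2
    simp only [Fin.val_castSucc]
    omega
  have h3 : ¬ ((Fin.last (n + 1) : Fin (n + 2)) : ℕ) + 1 < n + 2 := by simp
  simp only [h2, h3, if_true, if_false]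
  by_cases h4 : (m : ℕ) < n + 1
  · have h5 : m = (⟨m, h4⟩ : Fin (n + 1)).castSucc := by ext; simp
    rw [Finset.sum_eq_single (⟨m, h4⟩ : Fin (n + 1))]
    · rw [← h5, if_pos rfl]
      split_ifs <;> omega
    · intro j _ hj
      rw [if_neg, mul_zero]
      intro h'
      apply hj
      ext
      have := congrArg Fin.val h'
      simpa using this.symm
    · simp
  · have h5 : m = Fin.last (n + 1) := by ext; simp; omega
    rw [Finset.sum_eq_zero]
    · subst h5
      have h6 : ((Fin.last (n + 1) : Fin (n + 2)) : ℕ) = n + 1 := by simp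
      rw [h6, if_neg (by omega), if_pos rfl, if_neg (by omega), if_neg (by omega)]
      ring
    · intro j _
      rw [if_neg, mul_zero]
      rintro h'
      have := congrArg Fin.val h'
      have hj := j.2
      simp at this
      omega

theorem hJ1D (hk : k + 2 ≤ n + 2) (hkn : k + 2 ≤ n + 1) (i j : Fin (k + 2)) (hij : i ≠ j) :
    ∃ r ∈ RootsJ cs (isCartan n) (JJ (n + 2) (k + 2)),
      WittRGDD.rg Fr r = XG Fr (Fin.castLE hk i, true) (Fin.castLE hk j, false) := by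
  have hne : (Fin.castLE hk i) ≠ (Fin.castLE hk j) := fun h => hij (Fin.castLE_injective hk h)
  obtain ⟨r, hr, e⟩ := rt_of_ok (cs := cs) (a := (Fin.castLE hk i, true)) (b := (Fin.castLE hk j, false)) hne
  have hlast : r (Fin.last (n + 1)) = 0 := by
    have h1 := psumD r (Fin.last (n + 1))
    rw [e, sum_sub (k := k + 2) (by simp) (by simp) (by simp; omega), if_neg (by simp), if_neg (by simp)] at h1
    omega
  refine ⟨r, ⟨hr, fun l hl => ?_⟩, ?_⟩
  · have hl' : k + 2 ≤ (l : ℕ) + 1 := not_lt.1 hl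
    have h1 := psumD r l
    rw [e, sum_sub (k := k + 2) (by simp) (by simp) hl', hlast] at h1
    split_ifs at h1 <;> omega
  · exact rg_eq Fr (a := (Fin.castLE hk i, true)) (b := (Fin.castLE hk j, false)) hne e

theorem hJ2D (hk : k + 2 ≤ n + 2) (hkn : k + 2 ≤ n + 1) {r : Fin (n + 2) → ℤ}
    (hr : r ∈ PosJ cs (isCartan n) (JJ (n + 2) (k + 2))) :
    ∃ i j : Fin (k + 2), i < j ∧ WittRGDD.rg Fr r = XG Fr (Fin.castLE hk i, true) (Fin.castLE hk j, false) ∧
      WittRGDD.rg Fr (-r) = XG Fr (Fin.castLE hk j, true) (Fin.castLE hk i, false) := by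
  obtain ⟨hr1, hr2, hr3⟩ := hr
  obtain ⟨a, b, hab, e⟩ := exists_of_isRoot cs hr1
  have hlast : r (Fin.last (n + 1)) = 0 := hr3 _ (by
    change ¬ (((Fin.last (n + 1) : Fin (n + 2)) : ℕ) + 1 < k + 2)
    simp; omega)
  obtain ⟨i, j, hij, hj, hc⟩ := comb (Or.inl hab) (k := k + 2) (by omega) hk (fun m hm => by
      rw [← e, psumD, hr3 m (not_lt.2 hm), hlast]
      split_ifs <;> omega) (fun m => by
      rw [← e, psumD]
      have h5 : (0 : ℤ) ≤ r m := hr2 m
      split_ifs <;> omega)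
  have hij' : (i : ℕ) < j := hij
  refine ⟨⟨i, by omega⟩, ⟨j, hj⟩, hij, ?_, ?_⟩
  · have e' : ee r = wt (i, true) + wt (j, false) := by
      rcases hc with ⟨rfl, rfl⟩ | ⟨rfl, rfl⟩
      · exact e
      · exact e.trans (add_comm _ _)
    have h1 : ((i, true) : Fin (n + 2) × Bool).1 ≠ ((j, false) : Fin (n + 2) × Bool).1 := hij.ne
    exact rg_eq Fr h1 e'
  · have e' : ee (-r) = wt (j, true) + wt (i, false) := by
      rw [ee_neg, e]
      rcases hc with ⟨rfl, rfl⟩ | ⟨rfl, rfl⟩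
      · have h1 := wt_ng (i, true)
        have h2 := wt_ng (j, false)
        change wt (i, false) = _ at h1
        change wt (j, true) = _ at h2
        rw [h1, h2]; abel
      · have h1 := wt_ng (i, true)
        have h2 := wt_ng (j, false)
        change wt (i, false) = _ at h1
        change wt (j, true) = _ at h2
        rw [h1, h2]; abel
    have h1 : ((j, true) : Fin (n + 2) × Bool).1 ≠ ((i, false) : Fin (n + 2) × Bool).1 := hij.ne'
    exact rg_eq Fr h1 e'

end TypeD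

end Cfsg.Agent.H156.SqBlk
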