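import Mathlib
import Cfsg.Agent.H156.SqBlk

/-!
Torus elements without fixed points on the root groups of a Witt frame outside a block (for S2523, tasks 268-270).
-/

set_option autoImplicit false
set_option linter.unusedSectionVars false

namespace Cfsg.Agent.H156.SqFix

open Matrix
open CoxeterSystem Cfsg.Agent.ChevalleyStructure.CoxeterGeom Cfsg.Agent.Tits.Roots Cfsg.Agent.Tits.Core
  Cfsg.Agent.Nodes.Reps Cfsg.Agent.Nodes.BNOf Cfsg.Agent.Nodes.StabComb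
  Cfsg.Agent.Nodes.RGDLib Cfsg.Agent.Nodes.Bruhat Cfsg.Agent.Nodes.OppDec Cfsg.Agent.Nodes.LeviDec
open Cfsg.Agent.Nodes
open Cfsg.Agent.TitsThree.Siegel Cfsg.Agent.TitsThree.WittFrame Cfsg.Agent.TitsThree.WittWeyl
open Cfsg.Agent.Nodes.WittRoot (XG ZG PG PG_ne PG_self)
open Cfsg.Agent.Nodes.WittRGD (Tor b_ne_zero)
open Cfsg.Agent.H162.GaussSL Cfsg.Agent.H162.GaussReg Cfsg.Agent.H162.GaussLevi Cfsg.Agent.H162.GaussMain
open Cfsg.Agent.H156.SqPhi Cfsg.Agent.H156.SqBlk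

variable {F : Type*} [Field F] {V : Type*} [AddCommGroup V] [Module F V] {H : HForm F V} {N k : ℕ}
  {Fr : Frame H (Fin N)} {G0 : Subgroup (V ≃ₗ[F] V)}

theorem X_inj {a b : Fin N × Bool} (hab : a.1 ≠ b.1) {t t' : F} (h : Fr.X a b t = Fr.X a b t') : t = t' := by
  have h1 := X_apply_neg Fr hab t
  rw [h, X_apply_neg Fr hab t'] at h1
  have h2 := add_left_cancel h1
  have h3 : (t' - t) • Fr.b a = 0 := by rw [sub_smul, h2, sub_self]
  exact (sub_eq_zero.1 ((smul_eq_zero.1 h3).resolve_right (b_ne_zero (Fr := Fr) a))).symm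

theorem Z_inj {x : Fin N × Bool} {p q : Fr.Adm} (h : Fr.Z x p = Fr.Z x q) : p = q := by
  have h1 := Z_apply_neg Fr x p
  rw [h, Z_apply_neg Fr x q] at h1
  have hη := Fr.η_ne x
  have hc : q.c = p.c := by
    have h2 := congrArg (fun v => H.h v (Fr.b (neg x))) h1
    simp only [H.add_left, H.smul_left] at h2
    rw [Fr.h0' _ (Fr.ok_mem q.ok), Fr.h0' _ (Fr.ok_mem p.ok), Fr.hb_self_neg] at h2
    have h3 := Fr.η_ne (neg x)
    have h4 : q.c * Fr.η x * Fr.η (neg x) = p.c * Fr.η x * Fr.η (neg x) := by linear_combination h2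
    exact mul_right_cancel₀ hη (mul_right_cancel₀ h3 h4)
  rw [hc] at h1
  have h2 := add_left_cancel (add_right_cancel h1)
  have hw : q.w = p.w := by
    have h3 := congrArg (fun v => (Fr.η x)⁻¹ • v) h2
    simpa only [smul_smul, inv_mul_cancel₀ hη, one_smul] using h3
  exact (Frame.Adm.ext hw hc).symm

section

variable (hσ : ∀ c, H.σ c = c) {s : V ≃ₗ[F] V} (hs : s ∈ G0) (hiso : ∀ g ∈ G0, H.IsIso g)
  {l : Fin N × Bool → F} (hl : ∀ x, s (Fr.b x) = l x • Fr.b x) (h0 : ∀ w ∈ Fr.V0, s w = w)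

include hσ hs hiso hl

theorem fixX {a b : Fin N × Bool} (hab : a.1 ≠ b.1) (hne : l a * l b ≠ 1) {u : V ≃ₗ[F] V} (hu : u ∈ XG Fr a b)
    (hsu : s * u * s⁻¹ = u) : u = 1 := by
  obtain ⟨t, rfl⟩ := hu
  rw [conj_X Fr (hiso s hs) hab hab (hl a) (hl b) t, hσ] at hsu
  have h1 := X_inj hab hsu
  have h2 := Fr.η_ne b
  have h3 : (l a * l b - 1) * t = 0 := by
    have h4 : l a * l b * (Fr.η b)⁻¹ * Fr.η b * t = l a * l b * t := by field_simp
    rw [h4] at h1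
    rw [sub_mul, h1, one_mul, sub_self]
  rw [(mul_eq_zero.1 h3).resolve_left (sub_ne_zero.2 hne), Fr.X_zero]

include h0

theorem fixZ {x : Fin N × Bool} (hne : ∀ p : Fr.Adm, l x • p.w = p.w → l x * l x * p.c = p.c → p = 1)
    {u : V ≃ₗ[F] V} (hu : u ∈ ZG Fr x) (hsu : s * u * s⁻¹ = u) : u = 1 := by
  obtain ⟨p, rfl⟩ := hu
  rw [conj_Z Fr (hiso s hs) (hl x) p p (h0 _ (Fr.ok_mem p.ok)) rfl, hσ] at hsu
  have h1 := Z_inj hsu
  have h2 : p = 1 := by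
    refine hne p ?_ ?_
    · have := congrArg Frame.Adm.w h1
      rwa [Frame.Adm.smul_w] at this
    · have := congrArg Frame.Adm.c h1
      rwa [Frame.Adm.smul_c, hσ] at this
  rw [h2, Fr.Z_one]

end

/-! ### Type `C_n` -/

section TypeC

open Cfsg.Agent.Nodes.TypeC
open Cfsg.Agent.Nodes.WittRoot (rg_eq)

variable {n : ℕ} {W : Type*} [Group W] {cs : CoxeterSystem (CoxeterMatrix.B n) W}
  {Fr : Frame H (Fin n)}

theorem apply_zeroC {r : Fin n → ℤ} {a b : Fin n × Bool} (e : ee r = wt a + wt b) (hab : a.2 ≠ b.2)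
    (ha : (a.1 : ℕ) < k) (hb : (b.1 : ℕ) < k) {m : Fin n} (hm : m ∉ JJ n k) : r m = 0 := by
  have hm' : k ≤ (m : ℕ) + 1 := not_lt.1 hm
  have h1 := psumC r m
  have h2 : ∑ l ∈ Finset.Iic m, ee r l = 0 := by
    obtain ⟨a, sa⟩ := a
    obtain ⟨b, sb⟩ := b
    rw [e]
    cases sa <;> cases sb
    · exact absurd rfl hab
    · rw [add_comm]; exact sum_sub hb ha hm'
    · exact sum_sub ha hb hm'
    · exact absurd rfl hab
  rw [h2] at h1
  split_ifs at h1 <;> omega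

theorem noFixC (hσ : ∀ c, H.σ c = c) {s : V ≃ₗ[F] V} (hs : s ∈ G0) (hiso : ∀ g ∈ G0, H.IsIso g)
    {l : Fin n × Bool → F} (hl : ∀ x, s (Fr.b x) = l x • Fr.b x) (h0 : ∀ w ∈ Fr.V0, s w = w)
    (h1 : ∀ a b : Fin n × Bool, a.1 ≠ b.1 → ¬ (a.2 ≠ b.2 ∧ (a.1 : ℕ) < k ∧ (b.1 : ℕ) < k) → l a * l b ≠ 1)
    (h2 : ∀ x, ∀ p : Fr.Adm, l x • p.w = p.w → l x * l x * p.c = p.c → p = 1) :
    NoFix cs (isCartan n) (fun x => (WittRoot.rg Fr x).subgroupOf G0) (JJ n k) ⟨s, hs⟩ := by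
  rintro r hr ⟨m, hm, hrm⟩ u hu hsu
  obtain ⟨a, b, hab, e⟩ := exists_of_isRoot cs hr
  rw [Subgroup.mem_subgroupOf, rg_eq Fr hab e] at hu
  have hsu' : s * u.1 * s⁻¹ = u.1 := congrArg Subtype.val hsu
  apply Subtype.ext
  rcases hab with h | rfl
  · rw [PG_ne Fr h] at hu
    refine fixX hσ hs hiso hl h (h1 a b h ?_) hu hsu'
    rintro ⟨h3, h4, h5⟩
    exact hrm (apply_zeroC e h3 h4 h5 hm)
  · rw [PG_self] at hu
    exact fixZ hσ hs hiso hl h0 (h2 a) hu hsu'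

end TypeC

/-! ### Type `D_{n+2}` -/

section TypeD

open Cfsg.Agent.Nodes.TypeC (wt wt_ng)
open Cfsg.Agent.Nodes.TypeD
open Cfsg.Agent.Nodes.WittRGDD (rg_eq)

variable {n : ℕ} {W : Type*} [Group W] {cs : CoxeterSystem (TypeD.M n) W}
  {Fr : Frame H (Fin (n + 2))}

theorem apply_zeroD {r : Fin (n + 2) → ℤ} {a b : Fin (n + 2) × Bool} (e : ee r = wt a + wt b) (hab : a.2 ≠ b.2)
    (hk : k ≤ n + 1) (ha : (a.1 : ℕ) < k) (hb : (b.1 : ℕ) < k) {m : Fin (n + 2)} (hm : m ∉ JJ (n + 2) k) : r m = 0 := by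
  have h2 : ∀ m : Fin (n + 2), k ≤ (m : ℕ) + 1 → ∑ l ∈ Finset.Iic m, ee r l = 0 := by
    intro m hm'
    obtain ⟨a, sa⟩ := a
    obtain ⟨b, sb⟩ := b
    rw [e]
    cases sa <;> cases sb
    · exact absurd rfl hab
    · rw [show wt (a, false) + wt (b, true) = wt (b, true) + wt (a, false) from add_comm _ _]
      exact sum_sub hb ha hm'
    · exact sum_sub ha hb hm'
    · exact absurd rfl hab
  have hlast : r (Fin.last (n + 1)) = 0 := by
    have h1 := psumD r (Fin.last (n + 1))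
    rw [h2 _ (by simp; omega), if_neg (by simp), if_neg (by simp)] at h1
    omega
  have h1 := psumD r m
  rw [h2 m (not_lt.1 hm), hlast] at h1
  split_ifs at h1 <;> omega

theorem noFixD (hσ : ∀ c, H.σ c = c) (hk : k ≤ n + 1) {s : V ≃ₗ[F] V} (hs : s ∈ G0) (hiso : ∀ g ∈ G0, H.IsIso g)
    {l : Fin (n + 2) × Bool → F} (hl : ∀ x, s (Fr.b x) = l x • Fr.b x)
    (h1 : ∀ a b : Fin (n + 2) × Bool, a.1 ≠ b.1 → ¬ (a.2 ≠ b.2 ∧ (a.1 : ℕ) < k ∧ (b.1 : ℕ) < k) → l a * l b ≠ 1) :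
    NoFix cs (isCartan n) (fun x => (WittRGDD.rg Fr x).subgroupOf G0) (JJ (n + 2) k) ⟨s, hs⟩ := by
  rintro r hr ⟨m, hm, hrm⟩ u hu hsu
  obtain ⟨a, b, hab, e⟩ := exists_of_isRoot cs hr
  rw [Subgroup.mem_subgroupOf, rg_eq Fr hab e] at hu
  have hsu' : s * u.1 * s⁻¹ = u.1 := congrArg Subtype.val hsu
  apply Subtype.ext
  refine fixX hσ hs hiso hl hab (h1 a b hab ?_) hu hsu'
  rintro ⟨h3, h4, h5⟩
  exact hrm (apply_zeroD e h3 hk h4 h5 hm)

end TypeD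

end Cfsg.Agent.H156.SqFix
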