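import Mathlib
import Cfsg.Agent.H156.SqFix

/-!
Torus elements and Weyl elements of a Witt frame, assembly of the block datum (for S2523, tasks 268-270).
-/

set_option autoImplicit false
set_option linter.unusedSectionVars false

namespace Cfsg.Agent.H156.SqTor

open Matrix
open CoxeterSystem Cfsg.Agent.ChevalleyStructure.CoxeterGeom Cfsg.Agent.Tits.Roots Cfsg.Agent.Tits.Core
  Cfsg.Agent.Nodes.Reps Cfsg.Agent.Nodes.BNOf Cfsg.Agent.Nodes.StabComb
  Cfsg.Agent.Nodes.RGDLib Cfsg.Agent.Nodes.Bruhat Cfsg.Agent.Nodes.OppDec Cfsg.Agent.Nodes.LeviDec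
open Cfsg.Agent.Nodes
open Cfsg.Agent.TitsThree.Siegel Cfsg.Agent.TitsThree.WittFrame Cfsg.Agent.TitsThree.WittWeyl
open Cfsg.Agent.Nodes.WittRoot (XG ZG PG PG_ne PG_self Amb Mono)
open Cfsg.Agent.Nodes.WittRGD (Tor b_ne_zero)
open Cfsg.Agent.H162.GaussSL Cfsg.Agent.H162.GaussReg Cfsg.Agent.H162.GaussLevi Cfsg.Agent.H162.GaussMain
open Cfsg.Agent.H156.SqPhi Cfsg.Agent.H156.SqBlk

variable {F : Type*} [Field F] {V : Type*} [AddCommGroup V] [Module F V] {H : HForm F V} {N k : ℕ}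
  (Fr : Frame H (Fin N)) {G0 : Subgroup (V ≃ₗ[F] V)}

/-- the torus element -/
def tor (χ : Fin N → Fˣ) : V ≃ₗ[F] V := Phi Fr (ι := id) Function.injective_id (DD χ)

theorem DD_mul (χ χ' : Fin k → Fˣ) : DD (χ * χ') = DD χ * DD χ' := by
  apply Units.ext
  change diagonal _ = diagonal _ * diagonal _
  rw [diagonal_mul_diagonal]
  rfl

theorem tor_mul (χ χ' : Fin N → Fˣ) : tor Fr (χ * χ') = tor Fr χ * tor Fr χ' := by
  unfold tor
  rw [DD_mul, map_mul]

theorem tor_comm (χ χ' : Fin N → Fˣ) : tor Fr χ * tor Fr χ' * (tor Fr χ)⁻¹ = tor Fr χ' := by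
  rw [mul_inv_eq_iff_eq_mul, ← tor_mul, ← tor_mul, mul_comm]

theorem tor_true (χ : Fin N → Fˣ) (i : Fin N) : tor Fr χ (Fr.b (i, true)) = (χ i : F) • Fr.b (i, true) := by
  have h1 : cT Fr id (Fr.b (i, true)) = Pi.single i 1 := by
    funext j
    rw [cT_apply, hb_tf, Pi.single_apply]
    simp only [id_eq, eq_comm]
  have h2 : cF Fr id (Fr.b (i, true)) = 0 := by
    funext j
    rw [cF_apply, hb_tt, mul_zero]; rfl
  have h3 : (((DD χ).1 - 1) *ᵥ Pi.single i (1 : F)) = Pi.single i ((χ i : F) - 1) := by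
    have : (DD χ).1 = diagonal fun i => (χ i : F) := rfl
    rw [this, ← diagonal_one, diagonal_sub, diagonal_mulVec_single, mul_one]
  unfold tor
  rw [Phi_apply, h1, h2, mulVec_zero, map_zero, add_zero, h3, eT, Fintype.linearCombination_apply_single]
  simp only [id_eq]
  module

theorem tor_false (χ : Fin N → Fˣ) (i : Fin N) :
    tor Fr χ (Fr.b (i, false)) = ((χ i)⁻¹ : Fˣ) • Fr.b (i, false) := by
  have h1 : cF Fr id (Fr.b (i, false)) = Pi.single i 1 := by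
    funext j
    rw [cF_apply, hb_ft, Pi.single_apply]
    simp only [id_eq]
    by_cases h : i = j
    · subst h
      rw [if_pos rfl, if_pos rfl, inv_mul_cancel₀ H.ε_ne]
    · rw [if_neg h, if_neg (Ne.symm h), mul_zero]
  have h2 : cT Fr id (Fr.b (i, false)) = 0 := by
    funext j
    rw [cT_apply, hb_ff]; rfl
  have h3 : ((((DD χ)⁻¹).1ᵀ - 1) *ᵥ Pi.single i (1 : F)) = Pi.single i ((((χ i)⁻¹ : Fˣ) : F) - 1) := by
    have : ((DD χ)⁻¹).1 = diagonal fun i => (((χ i)⁻¹ : Fˣ) : F) := rfl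
    rw [this, diagonal_transpose, ← diagonal_one, diagonal_sub, diagonal_mulVec_single, mul_one]
  unfold tor
  rw [Phi_apply, h1, h2, mulVec_zero, map_zero, add_zero, h3, eF, Fintype.linearCombination_apply_single]
  simp only [id_eq, Units.smul_def]
  module

theorem tor_V0 (χ : Fin N → Fˣ) {w : V} (hw : w ∈ Fr.V0) : tor Fr χ w = w := Phi_V0 Fr _ _ hw

/-- the eigenvalues -/
def lam (χ : Fin N → Fˣ) (x : Fin N × Bool) : F := if x.2 then (χ x.1 : F) else ((χ x.1)⁻¹ : Fˣ)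

theorem lam_ne (χ : Fin N → Fˣ) (x : Fin N × Bool) : lam χ x ≠ 0 := by
  unfold lam; split_ifs <;> exact Units.ne_zero _

theorem tor_apply (χ : Fin N → Fˣ) (x : Fin N × Bool) : tor Fr χ (Fr.b x) = lam χ x • Fr.b x := by
  obtain ⟨i, s⟩ := x
  cases s
  · exact tor_false Fr χ i
  · exact tor_true Fr χ i

variable {Fr}

theorem tor_mem_Tor {χ : Fin N → Fˣ} (h : tor Fr χ ∈ G0) : tor Fr χ ∈ Tor Fr G0 :=
  ⟨h, fun x => ⟨lam χ x, lam_ne χ x, tor_apply Fr χ x⟩⟩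

/-- exchange of the indices of `S` -/
def piS (S : Finset (Fin N)) (x : Fin N × Bool) : Fin N × Bool :=
  if x.1 ∈ S then Cfsg.Agent.TitsThree.WittFrame.neg x else x

theorem piS_piS (S : Finset (Fin N)) (x : Fin N × Bool) : piS S (piS S x) = x := by
  unfold piS
  by_cases h : x.1 ∈ S
  · rw [if_pos h, if_pos (by exact h), Cfsg.Agent.TitsThree.WittFrame.neg_neg]
  · rw [if_neg h, if_neg h]

theorem lam_piS {χ : Fin N → Fˣ} {S : Finset (Fin N)} (h : ∀ j, j ∉ S → χ j = 1) (x : Fin N × Bool) :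
    lam χ (piS S x) * lam χ x = 1 := by
  obtain ⟨i, s⟩ := x
  unfold piS
  by_cases hi : i ∈ S
  · rw [if_pos hi]
    cases s <;> simp [lam, Cfsg.Agent.TitsThree.WittFrame.neg]
  · rw [if_neg hi]
    cases s <;> simp [lam, h i hi]

theorem hinv_of (hσ : ∀ c, H.σ c = c) (hA : Amb Fr G0) {χ : Fin N → Fˣ} {S : Finset (Fin N)}
    (hχ : ∀ j, j ∉ S → χ j = 1) {y : V ≃ₗ[F] V} (hy : y ∈ G0) (hm : Mono Fr y (piS S)) {ι : Fin k → Fin N}
    (hι : ∀ i, ι i ∈ S) : y * tor Fr χ * y⁻¹ = (tor Fr χ)⁻¹ ∧ ∃ l : Fin k → Fˣ,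
      (∀ i, y (Fr.b (ι i, true)) = (l i : F) • Fr.b (ι i, false)) ∧
      ∀ i, y (Fr.b (ι i, false)) = (H.ε * ((l i)⁻¹ : Fˣ)) • Fr.b (ι i, true) := by
  constructor
  · have h1 : (tor Fr χ * (y * tor Fr χ)) = y := by
      refine (inv_mul_eq_one.1 ?_).symm
      refine WittRGD.Amb.eq_one_of_fix hA (fun x => ?_) (fun w hw => ?_)
      · obtain ⟨c, hc, e⟩ := hm x
        have e1 : tor Fr χ (y (tor Fr χ (Fr.b x))) = y (Fr.b x) := by
          rw [tor_apply, map_smul, e, smul_smul, map_smul, tor_apply, smul_smul]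
          congr 1
          linear_combination c * lam_piS hχ x
        change y⁻¹ (tor Fr χ (y (tor Fr χ (Fr.b x)))) = _
        rw [e1]
        exact y.symm_apply_apply _
      · change y⁻¹ (tor Fr χ (y (tor Fr χ w))) = _
        rw [tor_V0 Fr χ hw, tor_V0 Fr χ (hA.map_V0 hy hm (piS_piS S) hw)]
        exact y.symm_apply_apply _
    rw [mul_inv_eq_iff_eq_mul, eq_inv_mul_iff_mul_eq]
    exact h1
  · have h1 : ∀ i, ∃ c : Fˣ, y (Fr.b (ι i, true)) = (c : F) • Fr.b (ι i, false) := by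
      intro i
      obtain ⟨c, hc, e⟩ := hm (ι i, true)
      unfold piS at e
      rw [if_pos (hι i)] at e
      exact ⟨Units.mk0 c hc, e⟩
    choose l hl using h1
    refine ⟨l, hl, fun i => ?_⟩
    obtain ⟨c, hc, e⟩ := hm (ι i, false)
    unfold piS at e
    rw [if_pos (hι i)] at e
    have e' : y (Fr.b (ι i, false)) = c • Fr.b (ι i, true) := e
    have h2 := hA.iso y hy (Fr.b (ι i, true)) (Fr.b (ι i, false))
    rw [hl, e', H.smul_left, H.smul_right, hσ, hb_ft, hb_tf, if_pos rfl, if_pos rfl] at h2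
    have hε := eps_sq hσ
    have h3 : c = H.ε * ((l i)⁻¹ : Fˣ) := by
      rw [Units.val_inv_eq_inv_val, eq_mul_inv_iff_mul_eq₀ (Units.ne_zero _)]
      linear_combination H.ε * h2 - (c * (l i : F)) * hε
    rw [e', h3]

/-- **Assembly of the block.** -/
theorem blkTor {W : Type*} [Group W] {M : CoxeterMatrix (Fin N)}
    {cs : CoxeterSystem M W} {A : Fin N → Fin N → ℤ} {h : IsCartan M A} {rg : (Fin N → ℤ) → Subgroup (V ≃ₗ[F] V)}
    (hσ : ∀ c, H.σ c = c) (hA : Amb Fr G0) (hk : k + 2 ≤ N) {J : Set (Fin N)}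
    (hJ1 : ∀ i j : Fin (k + 2), i ≠ j → ∃ r ∈ RootsJ cs h J,
      rg r = XG Fr (Fin.castLE hk i, true) (Fin.castLE hk j, false))
    (hJ2 : ∀ r ∈ PosJ cs h J, ∃ i j : Fin (k + 2), i < j ∧
      rg r = XG Fr (Fin.castLE hk i, true) (Fin.castLE hk j, false) ∧
      rg (-r) = XG Fr (Fin.castLE hk j, true) (Fin.castLE hk i, false))
    {χ : Fin N → Fˣ} (hs : tor Fr χ ∈ G0) {a : Fˣ} (hχ : ∀ i : Fin (k + 2), χ (Fin.castLE hk i) = a)
    (hfix : NoFix cs h (fun x => (rg x).subgroupOf G0) J ⟨tor Fr χ, hs⟩)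
    (hgl : ∀ d : Fˣ, ∃ χ' : Fin N → Fˣ, tor Fr χ' ∈ G0 ∧
      ∀ i : Fin (k + 2), χ' (Fin.castLE hk i) = if i = 0 then d else 1)
    (hinv : ∃ S : Finset (Fin N), (∀ i : Fin (k + 2), Fin.castLE hk i ∈ S) ∧ (∀ j, j ∉ S → χ j = 1) ∧
      ∃ y ∈ G0, Mono Fr y (piS S)) :
    Blk cs h ((Tor Fr G0).subgroupOf G0) (fun x => (rg x).subgroupOf G0) J F k ⟨tor Fr χ, hs⟩
      (phi (Fr := Fr) (Fin.castLE_injective hk) hσ hA.X_mem) := by
  refine blk (Fin.castLE_injective hk) hσ hA.X_mem hA.iso hJ1 hJ2 hs (a := a) ?_ ?_ (tor_mem_Tor hs) hfix ?_ ?_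
  · intro i
    rw [tor_true, hχ]
  · intro i
    rw [tor_false, hχ]
  · intro d
    obtain ⟨χ', h1, h2⟩ := hgl d
    refine ⟨tor Fr χ', h1, tor_comm Fr _ _, fun i => ?_, fun i => ?_⟩
    · rw [tor_true, h2]
    · rw [tor_false, h2]
  · obtain ⟨S, hS, hχS, y, hy, hm⟩ := hinv
    exact ⟨y, hy, hinv_of hσ hA hχS hy hm hS⟩

/-! ### Weyl elements -/

theorem mono_nZ {p : Fr.Adm} (hp : p.c ≠ 0) (i : Fin N) : Mono Fr (nZ Fr (i, true) p) (piS {i}) := by
  have h3 := H.ε_ne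
  have hσ : H.σ p.c ≠ 0 := by simpa using hp
  have hη := Fr.η_ne (i, true)
  intro x
  unfold piS
  by_cases h1 : x.1 = i
  · obtain ⟨j, s⟩ := x
    simp only at h1
    subst h1
    rw [if_pos (by simp)]
    cases s
    · exact ⟨Fr.η (j, true) * p.c, mul_ne_zero hη hp, nZ_apply_neg Fr (j, true) p hp⟩
    · exact ⟨_, by simp [*], nZ_apply_self Fr (j, true) p hp⟩
  · refine ⟨1, one_ne_zero, ?_⟩
    rw [one_smul, if_neg (by simpa using h1)]
    exact nZ_apply_of_ne Fr (x := (i, true)) (z := x) h1 p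

/-- products of the elements `nZ` -/
theorem exists_monoZ (hA : Amb Fr G0) {p : Fr.Adm} (hp : p.c ≠ 0) (S : Finset (Fin N)) :
    ∃ y ∈ G0, Mono Fr y (piS S) := by
  induction S using Finset.induction_on with
  | empty => exact ⟨1, one_mem _, Mono.one.congr fun x => by unfold piS; rw [if_neg (Finset.notMem_empty _)]; rfl⟩
  | insert i S hi ih =>
    obtain ⟨y, hy, hm⟩ := ih
    refine ⟨nZ Fr (i, true) p * y, mul_mem (WittRGD.nZ_mem hA _ _) hy, ((mono_nZ hp i).mul hm).congr fun x => ?_⟩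
    obtain ⟨j, s⟩ := x
    unfold piS
    by_cases h1 : j ∈ S
    · have h2 : j ≠ i := fun h => hi (h ▸ h1)
      simp [h1, h2]
    · by_cases h2 : j = i
      · subst h2
        simp [h1]
      · simp [h1, h2]

end Cfsg.Agent.H156.SqTor
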