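import Mathlib
import Cfsg.Agent.H156.SqTor
import Cfsg.Agent.TitsThree.KSideO
import Cfsg.Agent.H206.OrthBal

/-!
Torus elements of orthogonal groups (for S2523, tasks 269-270).
-/

set_option autoImplicit false
set_option linter.unusedSectionVars false

namespace Cfsg.Agent.H156.SqOrth

open Matrix QuadraticMap
open Cfsg.Agent.LieClassical Cfsg.Agent.LieClassical.OrthCore Cfsg.Agent.LieClassical.OrthTrans
open Cfsg.Agent.LieClassical.OrthSimple
open Cfsg.Agent.TitsThree Cfsg.Agent.TitsThree.Siegel Cfsg.Agent.TitsThree.SiegelGen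
  Cfsg.Agent.TitsThree.WittFrame Cfsg.Agent.TitsThree.WittWeyl Cfsg.Agent.TitsThree.WBridge
  Cfsg.Agent.TitsThree.KSideO
open Cfsg.Agent.Nodes
open Cfsg.Agent.Nodes.WittRoot (Amb Mono)
open Cfsg.Agent.H156.SqPhi Cfsg.Agent.H156.SqBlk Cfsg.Agent.H156.SqTor Cfsg.Agent.H156.SqFix

section General

variable {F : Type*} [Field F] {V : Type*} [AddCommGroup V] [Module F V] {H : HForm F V} {N k : ℕ}
  {Fr : Frame H (Fin N)} {G0 : Subgroup (V ≃ₗ[F] V)}

theorem tor_mem_of_prod (hσ : ∀ c, H.σ c = c) (hA : Amb Fr G0) {χ : Fin N → Fˣ} (h : ∏ i, χ i = 1) :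
    tor Fr χ ∈ G0 := by
  have h1 : (diagonal fun i => (χ i : F)).det = 1 := by
    rw [det_diagonal]
    have h0 := congrArg (fun u : Fˣ => (u : F)) h
    simpa [Units.coe_prod] using h0
  have h2 : DD χ = SpecialLinearGroup.toGL ⟨diagonal fun i => (χ i : F), h1⟩ := Units.ext rfl
  unfold tor
  rw [h2]
  exact Phi_mem Function.injective_id hσ hA.X_mem _

/-- the torus elements `diag(d, 1, ..., 1; d⁻¹)` -/
theorem hgl_of (hσ : ∀ c, H.σ c = c) (hA : Amb Fr G0) (hk : k + 2 ≤ N) (hk' : k + 3 ≤ N) (d : Fˣ) :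
    ∃ χ' : Fin N → Fˣ, tor Fr χ' ∈ G0 ∧ ∀ i : Fin (k + 2), χ' (Fin.castLE hk i) = if i = 0 then d else 1 := by
  have hne : (⟨0, by omega⟩ : Fin N) ≠ ⟨k + 2, by omega⟩ := by simp [Fin.ext_iff]
  refine ⟨Pi.mulSingle ⟨0, by omega⟩ d * Pi.mulSingle ⟨k + 2, by omega⟩ d⁻¹, tor_mem_of_prod hσ hA ?_, fun i => ?_⟩
  · simp only [Pi.mul_apply, Finset.prod_mul_distrib]
    rw [Finset.prod_pi_mulSingle', Finset.prod_pi_mulSingle', if_pos (Finset.mem_univ _),
      if_pos (Finset.mem_univ _), mul_inv_cancel]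
  · have h2 : Fin.castLE hk i ≠ ⟨k + 2, by omega⟩ := by
      intro h
      have h3 := congrArg Fin.val h
      simp only [Fin.val_castLE] at h3
      have := i.2
      omega
    rw [Pi.mul_apply, Pi.mulSingle_eq_of_ne h2, mul_one, Pi.mulSingle_apply]
    congr 1
    rw [Fin.ext_iff, Fin.ext_iff]
    rfl

/-- signs -/
def sg (x : Fin N × Bool) : ℤ := if x.2 then 1 else -1

theorem lam_zpow (g : Fˣ) (e : Fin N → ℤ) (x : Fin N × Bool) :
    lam (fun i => g ^ e i) x = ((g ^ (sg x * e x.1) : Fˣ) : F) := by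
  unfold lam sg
  split_ifs
  · rw [one_mul]
  · rw [neg_one_mul, _root_.zpow_neg]

theorem lam_mul_zpow (g : Fˣ) (e : Fin N → ℤ) (x y : Fin N × Bool) :
    lam (fun i => g ^ e i) x * lam (fun i => g ^ e i) y = ((g ^ (sg x * e x.1 + sg y * e y.1) : Fˣ) : F) := by
  rw [lam_zpow, lam_zpow, _root_.zpow_add, Units.val_mul]

theorem zpow_ne_one {G : Type*} [Group G] {g : G} (hg : 8 ≤ orderOf g) {n : ℤ} (h0 : n ≠ 0) (hn : n.natAbs < 8) :
    g ^ n ≠ 1 := by
  intro h
  have h1 := orderOf_dvd_iff_zpow_eq_one.2 h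
  have h2 := Int.natAbs_dvd_natAbs.2 h1
  rw [Int.natAbs_natCast] at h2
  have h3 := Nat.le_of_dvd (Int.natAbs_pos.2 h0) h2
  omega

theorem exists_gen {F : Type*} [Field F] [Fintype F] (hF : 9 ≤ Fintype.card F) : ∃ g : Fˣ, 8 ≤ orderOf g := by
  classical
  obtain ⟨g, hg⟩ := IsCyclic.exists_generator (α := Fˣ)
  refine ⟨g, ?_⟩
  have h1 : orderOf g = Nat.card Fˣ := orderOf_eq_card_of_forall_mem_zpowers hg
  rw [h1, Nat.card_eq_fintype_card, Fintype.card_units]
  omega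

end General

section Orth

variable {F : Type*} [Field F] {V : Type*} [AddCommGroup V] [Module F V] {Q : QuadraticForm F V} {m : ℕ}
  (W : WFrame (KSideO.PO Q) m)

theorem tor_mem_O (χ : Fin m → Fˣ) : tor (toFrame W) χ ∈ O Q := by
  rw [mem_O]
  intro v
  have hiso : ∀ x y, polar Q (tor (toFrame W) χ x) (tor (toFrame W) χ y) = polar Q x y :=
    isIso_Phi (toFrame W) Function.injective_id (fun c => rfl) (DD χ)
  have hadd : ∀ x y, Q (tor (toFrame W) χ x) = Q x → Q (tor (toFrame W) χ y) = Q y →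
      Q (tor (toFrame W) χ (x + y)) = Q (x + y) := by
    intro x y hx hy
    rw [map_add, Q_add, Q_add, hx, hy, hiso]
  have hsum : ∀ (s : Finset (Fin m)) (f : Fin m → V), (∀ i, Q (tor (toFrame W) χ (f i)) = Q (f i)) →
      Q (tor (toFrame W) χ (∑ i ∈ s, f i)) = Q (∑ i ∈ s, f i) := by
    intro s f hf
    induction s using Finset.induction_on with
    | empty => rw [Finset.sum_empty, map_zero]
    | insert i s hi ih => rw [Finset.sum_insert hi]; exact hadd _ _ (hf i) ih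
  obtain ⟨a, b, w, hw, e⟩ := W.span v
  rw [e]
  refine hadd _ _ (hadd _ _ (hsum _ _ fun i => ?_) (hsum _ _ fun i => ?_)) ?_
  · have h1 : tor (toFrame W) χ (W.e i) = (χ i : F) • W.e i := tor_true (toFrame W) χ i
    rw [map_smul, h1, QuadraticMap.map_smul, QuadraticMap.map_smul, QuadraticMap.map_smul, (sing_iff Q).1 (W.e_sing i),
      smul_zero, smul_zero]
  · have h1 : tor (toFrame W) χ (W.f i) = ((χ i)⁻¹ : Fˣ) • W.f i := tor_false (toFrame W) χ i
    rw [map_smul, h1, Units.smul_def, QuadraticMap.map_smul, QuadraticMap.map_smul, QuadraticMap.map_smul,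
      (sing_iff Q).1 (W.f_sing i), smul_zero, smul_zero]
  · rw [tor_V0 (toFrame W) χ hw]

theorem tor_sq_mem (hG : Good Q) (χ : Fin m → Fˣ) : tor (toFrame W) (χ * χ) ∈ E Q := by
  rw [tor_mul]
  exact H206.OrthBal.sq_mem_E hG (tor_mem_O W χ)

end Orth

end Cfsg.Agent.H156.SqOrth
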