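import Mathlib
import Cfsg.Agent.H156.SqOrth
import Cfsg.Agent.Nodes.WittInst
import Cfsg.Agent.Nodes.TyChart
import Cfsg.Agent.Nodes.RGDOrth
import Cfsg.Agent.OddHalf.NI.OmegaRows
import Cfsg.Agent.UGT.U2.Rec.Congr
import Cfsg.Agent.S0295

/-!
`PΩ_{2m+1}(F)`, `m ≥ 3`, `|F| ≥ 9` odd, is the square of a conjugacy class (S2523, task 269).
-/

set_option autoImplicit false
set_option linter.unusedSectionVars false

namespace Cfsg.Agent.H156.SqPOdd

open CoxeterSystem Cfsg.Agent.ChevalleyStructure.CoxeterGeom Cfsg.Agent.Tits.Roots Cfsg.Agent.Tits.Core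
  Cfsg.Agent.Nodes.Reps Cfsg.Agent.Nodes.BNOf Cfsg.Agent.Nodes.StabComb
  Cfsg.Agent.Nodes.RGDLib Cfsg.Agent.Nodes.Bruhat Cfsg.Agent.Nodes.OppDec Cfsg.Agent.Nodes.LeviDec
open QuadraticMap
open Cfsg.Agent.LieClassical Cfsg.Agent.LieClassical.OrthCore Cfsg.Agent.LieClassical.OrthTrans
open Cfsg.Agent.LieClassical.OrthSimple Cfsg.Agent.LieClassical.OrthFinite Cfsg.Agent.LieClassical.OrthForms
open Cfsg.Agent.Nodes
open Cfsg.Agent.Nodes.TypeC
open Cfsg.Agent.TitsThree Cfsg.Agent.TitsThree.Siegel Cfsg.Agent.TitsThree.SiegelGen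
  Cfsg.Agent.TitsThree.WittFrame Cfsg.Agent.TitsThree.WittWeyl Cfsg.Agent.TitsThree.WBridge
  Cfsg.Agent.TitsThree.KSideO
open Cfsg.Agent.Nodes.WittRoot (XG ZG PG PG_ne PG_self Amb Mono)
open Cfsg.Agent.Nodes.WittRGD (Tor b_ne_zero)
open Cfsg.Agent.H162.GaussSL Cfsg.Agent.H162.GaussReg Cfsg.Agent.H162.GaussLevi Cfsg.Agent.H162.GaussMain
open Cfsg.Agent.H156.SqPhi Cfsg.Agent.H156.SqBlk Cfsg.Agent.H156.SqTor Cfsg.Agent.H156.SqFix
open Cfsg.Agent.H156.SqOrth
open Cfsg.Agent.OddHalf.NI Cfsg.Agent.OddHalf.NI.OmegaRows Cfsg.Agent.OddHalf.NI.OmegaNodes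

/-- the exponents -/
def ex (k : ℕ) (i : Fin (k + 3)) : ℤ := if (i : ℕ) < k + 2 then 1 else 2

theorem ne_zero_of {k : ℕ} {a b : Fin (k + 3) × Bool} (hab : a.1 ≠ b.1)
    (h : ¬ (a.2 ≠ b.2 ∧ (a.1 : ℕ) < k + 2 ∧ (b.1 : ℕ) < k + 2)) :
    SqOrth.sg a * (ex k a.1 + ex k a.1) + SqOrth.sg b * (ex k b.1 + ex k b.1) ≠ 0 ∧
      (SqOrth.sg a * (ex k a.1 + ex k a.1) + SqOrth.sg b * (ex k b.1 + ex k b.1)).natAbs < 8 := by
  obtain ⟨a, s⟩ := a
  obtain ⟨b, t⟩ := b
  have h1 := a.2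
  have h2 := b.2
  have h3 : (a : ℕ) ≠ b := fun e => hab (Fin.ext e)
  simp only at h1 h2 h3 h
  unfold SqOrth.sg ex
  rcases Nat.lt_or_ge (a : ℕ) (k + 2) with ha | ha <;> rcases Nat.lt_or_ge (b : ℕ) (k + 2) with hb | hb
  · have hst : s = t := by
      by_contra hst
      exact h ⟨hst, ha, hb⟩
    subst hst
    simp only [if_pos ha, if_pos hb]
    cases s <;> simp
  · simp only [if_pos ha, if_neg (not_lt.2 hb)]
    cases s <;> cases t <;> simp
  · simp only [if_neg (not_lt.2 ha), if_pos hb]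
    cases s <;> cases t <;> simp
  · omega

theorem ne_zero_of' {k : ℕ} (a : Fin (k + 3) × Bool) :
    SqOrth.sg a * (ex k a.1 + ex k a.1) ≠ 0 ∧ (SqOrth.sg a * (ex k a.1 + ex k a.1)).natAbs < 8 := by
  unfold SqOrth.sg ex
  split_ifs <;> constructor <;> norm_num

theorem square_podd0 {F : Type} [Field F] [Fintype F] (hF : 9 ≤ Fintype.card F) (hodd : Odd (Fintype.card F))
    (m : ℕ) (hm : 3 ≤ m) : ∃ c : Cfsg.POmega F (Cfsg.quadFormOdd m F), ∀ g, ∃ x y,
      g = (x * c * x⁻¹) * (y * c * y⁻¹) := by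
  obtain ⟨k, rfl⟩ : ∃ k, m = k + 3 := ⟨m - 3, by omega⟩
  have hsimp : IsSimpleGroup (Cfsg.POmega F (Cfsg.quadFormOdd (k + 3) F)) := S0295.result hodd (k + 3) (by omega)
  obtain ⟨p, hp, hc, hp2⟩ := exists_char hodd
  have : Fact p.Prime := ⟨hp⟩
  rw [← coe_oddForm] at hsimp ⊢
  have h2 : (2 : F) ≠ 0 := Cfsg.Agent.OddHalf.LongSL.Orth.two_ne hp2
  have hG : Good (oddForm (k + 3) F) := by
    apply good_of_finite (nondeg_oddForm (k + 3) F h2)
    rw [Module.finrank_fintype_fun_eq_card, Fintype.card_sum, Fintype.card_sum, Fintype.card_fin,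
      Fintype.card_unit]
    omega
  have hA := RGDOrth.amb (wodd (k + 3) F) h2
  obtain ⟨p0, hp0⟩ : ∃ p0 : (toFrame (wodd (k + 3) F)).Adm, p0.c ≠ 0 := by
    refine ⟨(embOdd (k + 3) F).ngt ⟨1, -1 ^ 2, rfl⟩, ?_⟩
    change (1 : F)⁻¹ * (-1 ^ 2) ≠ 0
    simp
  have : Finite (Unit ⊕ (Fin (k + 3) ⊕ Fin (k + 3)) → F) := inferInstance
  have : Finite ↥(E (oddForm (k + 3) F)) := Finite.of_injective (fun g : ↥(E (oddForm (k + 3) F)) =>
      (g.1 : (Unit ⊕ (Fin (k + 3) ⊕ Fin (k + 3)) → F) → (Unit ⊕ (Fin (k + 3) ⊕ Fin (k + 3)) → F)))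
      fun x y h => Subtype.ext (DFunLike.coe_injective h)
  have : Finite (CoxeterMatrix.B (k + 3)).Group := TypeC.finite_W (CoxeterMatrix.B (k + 3)).toCoxeterSystem
  have hAT := WittAll.AmbT.of_amb hA p
  have hσ : ∀ c, (HO (oddForm (k + 3) F)).σ c = c := fun c => rfl
  have R := rgd_restrict (WittAll.rgdC hAT (p0 := p0) hp0
    (CoxeterMatrix.B (k + 3)).toCoxeterSystem) (E (oddForm (k + 3) F)) (fun x _ => hA.rg_le x)
    (fun i => WittAll.nn_mem hAT p0 i)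
  have hG1 := ClsOrth.genE hA hp0 (by omega) (CoxeterMatrix.B (k + 3)).toCoxeterSystem
  have C := coordE (nodeO (k + 3)) hA
  have hconn := Chart.Ty.irrC (k + 3) (by omega)
  obtain ⟨g, hg⟩ := exists_gen hF
  have hs : tor (toFrame (wodd (k + 3) F)) (fun i => g ^ (ex k i + ex k i)) ∈ E (oddForm (k + 3) F) := by
    have h1 : (fun i => g ^ (ex k i + ex k i)) = (fun i => g ^ ex k i) * (fun i => g ^ ex k i) := by
      funext i
      rw [Pi.mul_apply, zpow_add]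
    rw [h1]
    exact tor_sq_mem (wodd (k + 3) F) hG _
  have hk : k + 2 ≤ k + 3 := by omega
  have D := blkTor (cs := (CoxeterMatrix.B (k + 3)).toCoxeterSystem) (h := isCartan (k + 3))
    (rg := WittRoot.rg (toFrame (wodd (k + 3) F))) (k := k) hσ hA hk
    (fun i j hij => hJ1C hk i j hij) (fun r hr => hJ2C hk hr) (χ := fun i => g ^ (ex k i + ex k i))
    hs (a := g ^ (2 : ℤ)) (fun i => by
      unfold ex
      rw [if_pos (by simp)]
      rfl)
    (noFixC hσ hs hA.iso (tor_apply _ _) (fun w hw => tor_V0 _ _ hw)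
      (fun x y hxy h => by
        rw [lam_mul_zpow]
        intro h1
        obtain ⟨h3, h4⟩ := ne_zero_of hxy h
        exact zpow_ne_one hg h3 h4 (Units.ext h1))
      (fun x q hw _ => by
        have h0 : lam (fun i => g ^ (ex k i + ex k i)) x ≠ 1 := by
          rw [lam_zpow]
          intro h1
          obtain ⟨h3, h4⟩ := ne_zero_of' (k := k) x
          exact zpow_ne_one hg h3 h4 (Units.ext h1)
        have h1 : q.w = 0 := by
          have h5 : (lam (fun i => g ^ (ex k i + ex k i)) x - 1) • q.w = 0 := by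
            rw [sub_smul, hw, one_smul, sub_self]
          exact (smul_eq_zero.1 h5).resolve_left (sub_ne_zero.2 h0)
        have h2 : q.c = -(oddForm (k + 3) F) q.w := q.ok.2
        apply Frame.Adm.ext
        · exact h1
        · rw [h2, h1, QuadraticMap.map_zero, neg_zero]
          rfl))
    (hgl_of hσ hA hk (by omega))
    ⟨Finset.univ, fun _ => Finset.mem_univ _, fun j hj => absurd (Finset.mem_univ j) hj,
      exists_monoZ hA hp0 Finset.univ⟩
  exact square R (toPOmega hG) (toPOmega_surjective hG) (WittInst.ker_toPOmega hG)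
    fun g hg => main R hG1 C hconn (by
      rw [Cardinal.mk_fintype]
      exact_mod_cast (by omega : 4 ≤ Fintype.card F)) D hg

/-- **`PΩ_{2m+1}(F)`, `m ≥ 3`, is the square of a conjugacy class.** -/
theorem square_podd {F : Type*} [Field F] [Fintype F] (hF : 9 ≤ Fintype.card F) (hodd : Odd (Fintype.card F))
    (m : ℕ) (hm : 3 ≤ m) : ∃ c : Cfsg.POmega F (Cfsg.quadFormOdd m F), ∀ g, ∃ x y,
      g = (x * c * x⁻¹) * (y * c * y⁻¹) := by
  let _ : Fintype (Shrink.{0} F) := Fintype.ofEquiv F (equivShrink.{0} F)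
  have hc : Fintype.card (Shrink.{0} F) = Fintype.card F := Fintype.card_congr (equivShrink.{0} F).symm
  obtain ⟨c, hc⟩ := square_podd0 (F := Shrink.{0} F) (by rw [hc]; exact hF) (by rw [hc]; exact hodd) m hm
  obtain ⟨e⟩ := UGT.U2.Rec.Congr.nonempty_POmegaOdd (Shrink.ringEquiv.{0} F) m
  refine ⟨e c, fun g => ?_⟩
  obtain ⟨x, y, h⟩ := hc (e.symm g)
  refine ⟨e x, e y, ?_⟩
  apply e.symm.injective
  rw [h]
  simp only [map_mul, map_inv, MulEquiv.symm_apply_apply]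

end Cfsg.Agent.H156.SqPOdd
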