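import Mathlib
import Cfsg.Agent.H156.SqTor
import Cfsg.Agent.OddHalf.NI.SpClosed
import Cfsg.Agent.Nodes.WittAll
import Cfsg.Agent.Nodes.TyChart
import Cfsg.Agent.TitsThree.KInstSp

/-!
`PSp_{2m}(F)`, `|F| ≥ 9`, is the square of a conjugacy class (S2523, task 268).
-/

set_option autoImplicit false
set_option linter.unusedSectionVars false

namespace Cfsg.Agent.H156.SqPSp

open CoxeterSystem Cfsg.Agent.ChevalleyStructure.CoxeterGeom Cfsg.Agent.Tits.Roots Cfsg.Agent.Tits.Core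
  Cfsg.Agent.Nodes.Reps Cfsg.Agent.Nodes.BNOf Cfsg.Agent.Nodes.StabComb
  Cfsg.Agent.Nodes.RGDLib Cfsg.Agent.Nodes.Bruhat Cfsg.Agent.Nodes.OppDec Cfsg.Agent.Nodes.LeviDec
open Cfsg.Agent.Nodes
open Cfsg.Agent.Nodes.TypeC
open Cfsg.Agent.TitsThree.Siegel Cfsg.Agent.TitsThree.WittFrame Cfsg.Agent.TitsThree.WittWeyl
open Cfsg.Agent.Nodes.WittRoot (XG ZG PG PG_ne PG_self Amb Mono)
open Cfsg.Agent.Nodes.WittRGD (Tor b_ne_zero)
open Cfsg.Agent.H162.GaussSL Cfsg.Agent.H162.GaussReg Cfsg.Agent.H162.GaussLevi Cfsg.Agent.H162.GaussMain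
open Cfsg.Agent.H156.SqPhi Cfsg.Agent.H156.SqBlk Cfsg.Agent.H156.SqTor Cfsg.Agent.H156.SqFix
open Cfsg.Agent.TitsThree.SpIdent
open Cfsg.Agent.OddHalf.NI.Mult
open Cfsg.Agent.OddHalf.NI

/-- an element whose square is not one -/
theorem exists_unit {F : Type*} [Field F] [Fintype F] (hF : 9 ≤ Fintype.card F) : ∃ a : Fˣ, a * a ≠ 1 := by
  classical
  obtain ⟨g, hg⟩ := IsCyclic.exists_generator (α := Fˣ)
  refine ⟨g, fun h => ?_⟩
  have h1 : orderOf g = Nat.card Fˣ := orderOf_eq_card_of_forall_mem_zpowers hg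
  have h2 : orderOf g ≤ 2 := orderOf_le_of_pow_eq_one (by norm_num) (by rw [pow_two, h])
  rw [h1, Nat.card_eq_fintype_card, Fintype.card_units] at h2
  omega

theorem lam_mul_self {F : Type*} [Field F] {N : ℕ} {a : Fˣ} (ha : a * a ≠ 1) (x y : Fin N × Bool) (hxy : x.2 = y.2) :
    lam (fun _ : Fin N => a) x * lam (fun _ : Fin N => a) y ≠ 1 := by
  have h1 : (a : F) * a ≠ 1 := fun h => ha (Units.ext h)
  unfold lam
  rw [hxy]
  split_ifs
  · exact h1
  · intro h
    apply ha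
    apply Units.ext
    rw [Units.val_mul, Units.val_one]
    have h2 : ((a⁻¹ : Fˣ) : F) * ((a⁻¹ : Fˣ) : F) = 1 := h
    rw [Units.val_inv_eq_inv_val, ← mul_inv, inv_eq_one] at h2
    exact h2

theorem le_mk {F : Type*} [Field F] [Fintype F] (hF : 9 ≤ Fintype.card F) : (4 : Cardinal) ≤ Cardinal.mk F := by
  rw [Cardinal.mk_fintype]
  exact_mod_cast (by omega : 4 ≤ Fintype.card F)

/-- **`PSp_{2m}(F)` is the square of a conjugacy class.** -/
theorem square_psp {F : Type*} [Field F] [Fintype F] (hF : 9 ≤ Fintype.card F) (m : ℕ) (hm : 2 ≤ m) :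
    ∃ c : Cfsg.PSp m F, ∀ g, ∃ x y, g = (x * c * x⁻¹) * (y * c * y⁻¹) := by
  obtain ⟨k, rfl⟩ : ∃ k, m = k + 2 := ⟨m - 2, by omega⟩
  obtain ⟨p, hp⟩ := CharP.exists F
  have hpp : Fact p.Prime := ⟨CharP.char_is_prime F p⟩
  have : Finite (CoxeterMatrix.B (k + 2)).Group := TypeC.finite_W (CoxeterMatrix.B (k + 2)).toCoxeterSystem
  have : Finite ((Fin (k + 2) ⊕ Fin (k + 2) → F) ≃ₗ[F] (Fin (k + 2) ⊕ Fin (k + 2) → F)) :=
    Finite.of_injective (fun g : (Fin (k + 2) ⊕ Fin (k + 2) → F) ≃ₗ[F] (Fin (k + 2) ⊕ Fin (k + 2) → F) =>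
      (g : (Fin (k + 2) ⊕ Fin (k + 2) → F) → (Fin (k + 2) ⊕ Fin (k + 2) → F))) DFunLike.coe_injective
  have hA : Amb (frame (k + 2) F) (isos (form (k + 2) F)) := WittU.amb_Sp
  have hAT := WittAll.AmbT.of_amb hA p
  have hσ : ∀ c, (form (k + 2) F).σ c = c := fun c => rfl
  have R := rgd_restrict (WittAll.rgdC hAT (p0 := adm (1 : F)) one_ne_zero
    (CoxeterMatrix.B (k + 2)).toCoxeterSystem) (isos (form (k + 2) F)) (fun x _ => hA.rg_le x)
    (fun i => WittAll.nn_mem hAT (adm (1 : F)) i)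
  have hG1 : G1 (CoxeterMatrix.B (k + 2)).toCoxeterSystem (isCartan (k + 2))
      (fun x => (WittRoot.rg (frame (k + 2) F) x).subgroupOf (isos (form (k + 2) F))) = ⊤ := by
    apply SpClosed.gen (by omega)
    · intro i
      exact X_le_G1 (X := fun x => (WittRoot.rg (frame (k + 2) F) x).subgroupOf (isos (form (k + 2) F)))
        (isRoot_sr _ _ i)
    · intro i
      exact X_le_G1 (X := fun x => (WittRoot.rg (frame (k + 2) F) x).subgroupOf (isos (form (k + 2) F)))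
        (isRoot_sr _ _ i).neg
  have C := WittCoord.coord (SpClosed.lf (F := F) (m := k + 2)) hA
  have hconn := Chart.Ty.irrC (k + 2) (by omega)
  obtain ⟨a, ha⟩ := exists_unit hF
  have hsimp : IsSimpleGroup (Cfsg.PSp (k + 2) F) := Cfsg.Agent.S0270.result (k + 2) (by omega) fun _ => by omega
  have D := blkTor (cs := (CoxeterMatrix.B (k + 2)).toCoxeterSystem) (h := isCartan (k + 2))
    (rg := WittRoot.rg (frame (k + 2) F)) (k := k) hσ hA le_rfl
    (fun i j hij => hJ1C le_rfl i j hij) (fun r hr => hJ2C le_rfl hr) (χ := fun _ => a)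
    (isIso_Phi (frame (k + 2) F) _ hσ _) (a := a) (fun _ => rfl)
    (noFixC hσ (isIso_Phi (frame (k + 2) F) _ hσ _) hA.iso (tor_apply _ _) (fun w hw => tor_V0 _ _ hw)
      (fun x y hxy h => lam_mul_self ha x y (by
        by_contra h1
        exact h ⟨h1, x.1.2, y.1.2⟩))
      (fun x q _ hc => by
        have h1 : q.w = 0 := q.ok
        have h2 : q.c = 0 := by
          by_contra h2
          exact lam_mul_self ha x x rfl (mul_right_cancel₀ h2 (by rw [hc, one_mul]))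
        exact Frame.Adm.ext h1 h2))
    (fun d => ⟨fun i => if i = 0 then d else 1, isIso_Phi (frame (k + 2) F) _ hσ _, fun i => rfl⟩)
    ⟨Finset.univ, fun _ => Finset.mem_univ _, fun j hj => absurd (Finset.mem_univ j) hj,
      exists_monoZ hA (p := adm (1 : F)) one_ne_zero Finset.univ⟩
  exact square R (toPSp (m := k + 2) (F := F)) toPSp_surjective
    (WittAll.ker_le_center (TitsThree.KInstSp.model (k + 2) F)) fun g hg => main R hG1 C hconn (le_mk hF) D hg

end Cfsg.Agent.H156.SqPSp
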