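import Mathlib
import Cfsg.Prelude.Def_Classical
import Cfsg.Agent.LieClassical.HermBasic
import Cfsg.Agent.LieClassical.HermSiegel
import Cfsg.Agent.ClassicalGeometry.HermFrame
import Cfsg.Agent.ClassicalGeometry.HermWitt
import Cfsg.Agent.ClassicalGeometry.PSUAutTorus
import Cfsg.Agent.ClassicalGeometry.GUBasic

set_option autoImplicit false

/-!
# Isometries of unitary spaces: irreducible ones have odd degree (helper156)
-/

open Cfsg

namespace Cfsg.Agent.H156.UBase

open Cfsg.Agent.LieClassical.HermBasic Polynomial Module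

variable {F : Type*} [Field F] [Fintype F] {q n : ℕ}

/-- `P^σ`. -/
noncomputable def bar (hF : Fintype.card F = q ^ 2) (P : F[X]) : F[X] := P.map (conj hF : F →+* F)

theorem herm_aeval (hF : Fintype.card F = q ^ 2) (x y : Module.End F (Fin n → F))
    (hxy : ∀ u v, hermForm n F q (x u) v = hermForm n F q u (y v)) (P : F[X]) (u v : Fin n → F) :
    hermForm n F q (aeval x P u) v = hermForm n F q u (aeval y (bar hF P) v) := by
  induction P using Polynomial.induction_on' generalizing u v with
  | add P Q hP hQ =>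
    have hb : bar hF (P + Q) = bar hF P + bar hF Q := Polynomial.map_add _
    rw [map_add, LinearMap.add_apply, herm_add_left, hP, hQ, hb, map_add,
      LinearMap.add_apply, herm_add_right hF]
  | monomial k a =>
    have hk : ∀ (k : ℕ) (u v : Fin n → F), hermForm n F q ((x ^ k) u) v = hermForm n F q u ((y ^ k) v) := by
      intro k
      induction k with
      | zero => intro u v; simp
      | succ k ih =>
        intro u v
        rw [pow_succ, Module.End.mul_apply, ih, hxy, pow_succ', Module.End.mul_apply]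
    rw [aeval_monomial, bar, Polynomial.map_monomial, aeval_monomial, Module.End.mul_apply,
      Module.End.mul_apply, Module.algebraMap_end_apply, Module.algebraMap_end_apply,
      herm_smul_left, herm_smul_right, hk]
    rw [RingHom.coe_coe, conj_apply, pow_q_pow_q hF]

omit [Fintype F] in
/-- If `P` is irreducible, kills `u ≠ 0`, and `Q` kills `u`, then `P ∣ Q`. -/
theorem dvd_of_kill {V : Type*} [AddCommGroup V] [Module F V] (x : Module.End F V) {P Q : F[X]}
    (hP : Irreducible P) {u : V} (hu : u ≠ 0) (h1 : aeval x P u = 0) (h2 : aeval x Q u = 0) : P ∣ Q := by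
  by_contra hcon
  have hco : IsCoprime P Q := (hP.coprime_iff_not_dvd).2 hcon
  obtain ⟨a, b, hab⟩ := hco
  apply hu
  have := congrArg (fun R => aeval x R u) hab
  simp only [map_add, map_mul, map_one, LinearMap.add_apply, Module.End.mul_apply, h1, h2, map_zero,
    add_zero, Module.End.one_apply] at this
  exact this.symm

/-- **An irreducible isometry of a unitary space has odd degree.** -/
theorem odd_of_irreducible (hF : Fintype.card F = q ^ 2) (x y : Module.End F (Fin n → F))
    (hxy : ∀ u v, hermForm n F q (x u) v = hermForm n F q u (y v)) (hinv : ∀ u, x (y u) = u)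
    (Y : Submodule F (Fin n → F)) (hY : ∀ u ∈ Y, x u ∈ Y) (hY' : ∀ u ∈ Y, y u ∈ Y)
    (hnd : ∀ u ∈ Y, (∀ v ∈ Y, hermForm n F q u v = 0) → u = 0) (hne : Y ≠ ⊥)
    {P : F[X]} (hP : Irreducible P) (hPY : ∀ u ∈ Y, aeval x P u = 0) : Odd P.natDegree := by
  classical
  have hPF : Fact (Irreducible P) := ⟨hP⟩
  obtain ⟨u0, hu0Y, hu0⟩ := Submodule.exists_mem_ne_zero_of_ne_bot hne
  have hYx : ∀ (Q : F[X]), ∀ u ∈ Y, aeval x Q u ∈ Y := by
    intro Q
    induction Q using Polynomial.induction_on' with
    | add A B hA hB =>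
      intro u hu
      rw [map_add, LinearMap.add_apply]
      exact Y.add_mem (hA u hu) (hB u hu)
    | monomial k a =>
      intro u hu
      rw [aeval_monomial, Module.End.mul_apply, Module.algebraMap_end_apply]
      apply Y.smul_mem
      induction k with
      | zero => simpa using hu
      | succ k ih => rw [pow_succ', Module.End.mul_apply]; exact hY _ ih
  have hYy : ∀ (Q : F[X]), ∀ u ∈ Y, aeval y Q u ∈ Y := by
    intro Q
    induction Q using Polynomial.induction_on' with
    | add A B hA hB =>
      intro u hu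
      rw [map_add, LinearMap.add_apply]
      exact Y.add_mem (hA u hu) (hB u hu)
    | monomial k a =>
      intro u hu
      rw [aeval_monomial, Module.End.mul_apply, Module.algebraMap_end_apply]
      apply Y.smul_mem
      induction k with
      | zero => simpa using hu
      | succ k ih => rw [pow_succ', Module.End.mul_apply]; exact hY' _ ih
  -- `P^σ(y)` kills `Y`
  have hPy : ∀ u ∈ Y, aeval y (bar hF P) u = 0 := by
    intro u hu
    apply hnd _ (hYy _ _ hu)
    intro v hv
    rw [herm_swap hF v, ← herm_aeval hF x y hxy, hPY v hv, herm_zero_left, zero_pow_q hF]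
  -- the root is invertible
  have hroot : AdjoinRoot.root P ≠ 0 := by
    intro h
    have h1 : AdjoinRoot.mk P X = 0 := h
    rw [AdjoinRoot.mk_eq_zero] at h1
    obtain ⟨R, hR⟩ := h1
    have h2 : aeval x (X : F[X]) (y u0) = 0 := by
      rw [hR, mul_comm, map_mul, Module.End.mul_apply, hPY _ (hY' _ hu0Y), map_zero]
    rw [aeval_X, hinv] at h2
    exact hu0 h2
  obtain ⟨b, hb⟩ := AdjoinRoot.mk_surjective ((AdjoinRoot.root P)⁻¹)
  have hXb : P ∣ X * b - 1 := by
    rw [← AdjoinRoot.mk_eq_zero, map_sub, map_mul, hb, map_one, AdjoinRoot.mk_X,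
      mul_inv_cancel₀ hroot, sub_self]
  -- `b(x)` acts as `y`
  have hyx : ∀ u ∈ Y, aeval x b u = y u := by
    intro u hu
    obtain ⟨R, hR⟩ := hXb
    have h1 : aeval x (b * X - 1) (y u) = 0 := by
      rw [mul_comm b X, hR, mul_comm, map_mul, Module.End.mul_apply, hPY _ (hY' _ hu), map_zero]
    rw [map_sub, map_mul, map_one, LinearMap.sub_apply, Module.End.mul_apply, aeval_X, hinv,
      Module.End.one_apply, sub_eq_zero] at h1
    exact h1
  have hcomp : ∀ Q : F[X], ∀ u ∈ Y, aeval x (Q.comp b) u = aeval y Q u := by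
    intro Q
    induction Q using Polynomial.induction_on' with
    | add A B hA hB =>
      intro u hu
      rw [add_comp, map_add, map_add, LinearMap.add_apply, LinearMap.add_apply, hA u hu, hB u hu]
    | monomial k a =>
      intro u hu
      rw [monomial_comp, map_mul, map_pow, aeval_monomial, aeval_C, Module.End.mul_apply,
        Module.End.mul_apply, Module.algebraMap_end_apply, Module.algebraMap_end_apply]
      congr 1
      induction k with
      | zero => simp
      | succ k ih =>
        rw [pow_succ', pow_succ', Module.End.mul_apply, Module.End.mul_apply, ih, hyx]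
        have hpow : ∀ (j : ℕ), (y ^ j) u ∈ Y := by
          intro j
          induction j with
          | zero => simpa using hu
          | succ j ihj => rw [pow_succ', Module.End.mul_apply]; exact hY' _ ihj
        exact hpow k
  have hdvd : P ∣ (bar hF P).comp b :=
    dvd_of_kill x hP hu0 (hPY _ hu0Y) (by rw [hcomp _ _ hu0Y, hPy _ hu0Y])
  -- the automorphism
  let i : F →+* AdjoinRoot P := (AdjoinRoot.of P).comp (conj hF : F →+* F)
  have hlift : P.eval₂ i (AdjoinRoot.root P)⁻¹ = 0 := by
    have h1 : AdjoinRoot.mk P ((bar hF P).comp b) = 0 := AdjoinRoot.mk_eq_zero.2 hdvd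
    rw [Polynomial.comp, hom_eval₂, hb, bar, eval₂_map] at h1
    exact h1
  let τ : AdjoinRoot P →+* AdjoinRoot P := AdjoinRoot.lift i (AdjoinRoot.root P)⁻¹ hlift
  have hτof : ∀ c, τ (AdjoinRoot.of P c) = AdjoinRoot.of P (c ^ q) := fun c => AdjoinRoot.lift_of hlift
  have hτroot : τ (AdjoinRoot.root P) = (AdjoinRoot.root P)⁻¹ := AdjoinRoot.lift_root hlift
  have hττ : ∀ a, τ (τ a) = a := by
    have h1 : τ.comp τ = RingHom.id _ := by
      apply AdjoinRoot.ringHom_ext
      · ext c
        simp only [RingHom.comp_apply, RingHom.id_apply, hτof, pow_q_pow_q hF]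
      · simp only [RingHom.comp_apply, RingHom.id_apply, hτroot, map_inv₀, inv_inv]
    intro a
    exact congrFun (congrArg DFunLike.coe h1) a
  have hfin : FiniteDimensional F (AdjoinRoot P) := (AdjoinRoot.powerBasis hP.ne_zero).finite
  have hFin : Finite (AdjoinRoot P) := Module.finite_of_finite F
  -- `Φ a = (τ a) ^ q` is `F`-linear
  obtain ⟨p, k, hp, hchar, hk, hk0⟩ := exists_prime_pow hF
  have hpF : Fact p.Prime := ⟨hp⟩
  have hcharL : CharP (AdjoinRoot P) p := charP_of_injective_algebraMap (algebraMap F (AdjoinRoot P)).injective p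
  let Φ : AdjoinRoot P →ₐ[F] AdjoinRoot P :=
    { (iterateFrobenius (AdjoinRoot P) p k).comp τ with
      commutes' := fun c => by
        show iterateFrobenius (AdjoinRoot P) p k (τ (AdjoinRoot.of P c)) = AdjoinRoot.of P c
        rw [hτof, iterateFrobenius_def, ← hk, ← map_pow, pow_q_pow_q hF] }
  have hΦ : ∀ a, Φ a = (τ a) ^ q := fun a => by
    show iterateFrobenius (AdjoinRoot P) p k (τ a) = _
    rw [iterateFrobenius_def, ← hk]
  have hΦΦ : ∀ a, Φ (Φ a) = a ^ (Fintype.card F) := fun a => by
    rw [hΦ, hΦ, map_pow, hττ, ← pow_mul, hF, sq]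
  obtain ⟨⟨j, hjd⟩, hj⟩ := (FiniteField.bijective_frobeniusAlgHom_pow F (AdjoinRoot P)).2 Φ
  have h2j : (FiniteField.frobeniusAlgHom F (AdjoinRoot P)) ^ (2 * j) =
      (FiniteField.frobeniusAlgHom F (AdjoinRoot P)) ^ 1 := by
    have h3 : Φ ^ 2 = (FiniteField.frobeniusAlgHom F (AdjoinRoot P)) ^ 1 := by
      ext1
      simp only [pow_one, sq]
      show Φ (Φ (AdjoinRoot.root P)) = _
      rw [hΦΦ]; rfl
    rw [← h3, ← hj, ← pow_mul, mul_comm]
  have hord := FiniteField.orderOf_frobeniusAlgHom F (AdjoinRoot P)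
  have hrk : finrank F (AdjoinRoot P) = P.natDegree := finrank_quotient_span_eq_natDegree
  have hd0 : 0 < finrank F (AdjoinRoot P) := Module.finrank_pos
  have hmod : (2 * j) % finrank F (AdjoinRoot P) = 1 % finrank F (AdjoinRoot P) := by
    have h3 := (FiniteField.bijective_frobeniusAlgHom_pow F (AdjoinRoot P)).1
      (a₁ := ⟨(2 * j) % finrank F (AdjoinRoot P), Nat.mod_lt _ hd0⟩)
      (a₂ := ⟨1 % finrank F (AdjoinRoot P), Nat.mod_lt _ hd0⟩) (by
        show (FiniteField.frobeniusAlgHom F (AdjoinRoot P)) ^ ((2 * j) % finrank F (AdjoinRoot P)) =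
          (FiniteField.frobeniusAlgHom F (AdjoinRoot P)) ^ (1 % finrank F (AdjoinRoot P))
        rw [← hord, pow_mod_orderOf, pow_mod_orderOf, h2j])
    exact congrArg Fin.val h3
  rw [hrk] at hmod hd0
  by_contra hodd
  rw [Nat.not_odd_iff_even] at hodd
  obtain ⟨e, he⟩ := hodd
  have h4 : 1 % P.natDegree = 1 := Nat.mod_eq_of_lt (by omega)
  rw [h4] at hmod
  have h5 : P.natDegree ∣ 2 * j - (2 * j) % P.natDegree := Nat.dvd_sub_mod _
  obtain ⟨c, hc⟩ := h5
  rw [he] at hc
  have h6 : (e + e) * c = 2 * (e * c) := by ring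
  have h7 : (2 * j) % (e + e) = 1 := by rw [← he]; exact hmod
  have h8 := Nat.mod_le (2 * j) (e + e)
  omega

end Cfsg.Agent.H156.UBase
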