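import Mathlib
import Cfsg.Agent.H156.UBase

set_option autoImplicit false

/-!
# Orthogonal complements in unitary spaces, invariant subspaces of isometries (helper156)
-/

open Cfsg

namespace Cfsg.Agent.H156.UPerp

open Cfsg.Agent.LieClassical.HermBasic Cfsg.Agent.LieClassical.HermSiegel Polynomial Module
  Cfsg.Agent.H156.UBase

variable {F : Type*} [Field F] [Fintype F] {q n : ℕ}

omit [Fintype F] in
/-- The orthogonal complement. -/
def perp (q : ℕ) (Y : Submodule F (Fin n → F)) : Submodule F (Fin n → F) where
  carrier := {u | ∀ w ∈ Y, hermForm n F q u w = 0}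
  add_mem' {a b} ha hb w hw := by rw [herm_add_left, ha w hw, hb w hw, add_zero]
  zero_mem' w _ := herm_zero_left w
  smul_mem' c a ha w hw := by rw [herm_smul_left, ha w hw, mul_zero]

omit [Fintype F] in
theorem mem_perp {Y : Submodule F (Fin n → F)} {u : Fin n → F} :
    u ∈ perp q Y ↔ ∀ w ∈ Y, hermForm n F q u w = 0 := Iff.rfl

theorem finrank_perp (hF : Fintype.card F = q ^ 2) (Y : Submodule F (Fin n → F)) :
    finrank F Y + finrank F (perp q Y) = n := by
  classical
  let b := Module.finBasis F Y
  let e : Fin (finrank F Y) → (Fin n → F) := fun i => (b i : Fin n → F)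
  have he : LinearIndependent F e := b.linearIndependent.map' Y.subtype (Submodule.ker_subtype Y)
  obtain ⟨f, hf⟩ := Cfsg.Agent.ClassicalGeometry.HermFrame.exists_dual hF he
  let T : (Fin n → F) →ₗ[F] (Fin (finrank F Y) → F) :=
    LinearMap.pi fun i => Cfsg.Agent.ClassicalGeometry.HermFrame.leftFun q (e i)
  have hT : ∀ u i, T u i = hermForm n F q u (e i) := fun u i => rfl
  have hsurj : Function.Surjective T := by
    intro c
    refine ⟨∑ j, c j • f j, ?_⟩
    funext i
    rw [hT, herm_sum_left, Finset.sum_eq_single i]
    · rw [herm_smul_left, herm_swap hF (e i), hf, if_pos rfl, one_pow, mul_one]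
    · intro j _ hj
      rw [herm_smul_left, herm_swap hF (e i), hf, if_neg (Ne.symm hj), zero_pow_q hF, mul_zero]
    · simp
  have hker : LinearMap.ker T = perp q Y := by
    ext u
    rw [LinearMap.mem_ker, mem_perp]
    constructor
    · intro h w hw
      have h1 : w = ∑ i, b.repr ⟨w, hw⟩ i • e i := by
        have h2 := b.sum_repr ⟨w, hw⟩
        have h3 : ((∑ i, b.repr ⟨w, hw⟩ i • b i : Y) : Fin n → F) = w := congrArg Subtype.val h2
        rw [Submodule.coe_sum] at h3
        exact h3.symm
      rw [h1, herm_sum_right hF]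
      refine Finset.sum_eq_zero fun i _ => ?_
      have h4 := congrFun h i
      rw [hT, Pi.zero_apply] at h4
      rw [herm_smul_right, h4, mul_zero]
    · intro h
      funext i
      rw [hT]
      exact h _ (b i).2
  have h1 := LinearMap.finrank_range_add_finrank_ker T
  rw [LinearMap.range_eq_top.2 hsurj, finrank_top, hker, Module.finrank_fin_fun,
    Module.finrank_fin_fun] at h1
  exact h1

/-- Nondegenerate subspace. -/
def Nd (q : ℕ) (Y : Submodule F (Fin n → F)) : Prop :=
  ∀ u ∈ Y, (∀ v ∈ Y, hermForm n F q u v = 0) → u = 0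

theorem perp_perp (hF : Fintype.card F = q ^ 2) (Y : Submodule F (Fin n → F)) :
    perp q (perp q Y) = Y := by
  have h1 := finrank_perp hF Y
  have h2 := finrank_perp hF (perp q Y)
  symm
  apply Submodule.eq_of_le_of_finrank_eq
  · intro u hu w hw
    rw [herm_swap hF w u, hw u hu, zero_pow_q hF]
  · omega

theorem Nd.perp (hF : Fintype.card F = q ^ 2) {Y : Submodule F (Fin n → F)} (h : Nd q Y) :
    Nd q (perp q Y) := by
  intro u hu hv
  have h1 : u ∈ UPerp.perp q (UPerp.perp q Y) := hv
  rw [perp_perp hF] at h1
  exact h u h1 (fun v hv' => hu v hv')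

/-- Invariance under an element of the unitary group. -/
def Inv (g : SU n F q) (Y : Submodule F (Fin n → F)) : Prop := ∀ u ∈ Y, act g u ∈ Y

/-- `act g` as a linear map. -/
def lin (g : SU n F q) : Module.End F (Fin n → F) := Matrix.mulVecLin (mat g)

omit [Fintype F] in
theorem lin_apply (g : SU n F q) (u : Fin n → F) : lin g u = act g u := rfl

omit [Fintype F] in
theorem Inv.inv {g : SU n F q} {Y : Submodule F (Fin n → F)} (h : Inv g Y) : Inv g⁻¹ Y := by
  have h1 : Y.map (lin g) = Y := by
    apply Submodule.eq_of_le_of_finrank_eq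
    · rintro _ ⟨u, hu, rfl⟩
      exact h u hu
    · exact (Submodule.equivMapOfInjective (lin g) (act_injective g) Y).finrank_eq.symm
  intro u hu
  rw [← h1] at hu
  obtain ⟨w, hw, rfl⟩ := hu
  rw [lin_apply, act_inv_act]
  exact hw

omit [Fintype F] in
theorem Inv.perp {g : SU n F q} {Y : Submodule F (Fin n → F)}
    (h : Inv g Y) : Inv g (perp q Y) := by
  intro u hu w hw
  rw [herm_act_left]
  exact hu _ (h.inv w hw)

/-- A nondegenerate invariant subspace of even dimension is not irreducible. -/
theorem not_irreducible (hF : Fintype.card F = q ^ 2) {g : SU n F q} {Y : Submodule F (Fin n → F)}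
    (hne : Y ≠ ⊥) (hInv : Inv g Y) (hnd : Nd q Y) {P : F[X]} (hP : Irreducible P)
    (hPY : ∀ u ∈ Y, aeval (lin g) P u = 0) : Odd P.natDegree :=
  odd_of_irreducible hF (lin g) (lin g⁻¹) (fun u v => herm_act_left g u v) (fun u => act_act_inv g u)
    Y hInv hInv.inv hnd hne hP hPY

/-- An isometry has an eigenvector on every nondegenerate invariant plane. -/
theorem exists_eigen_plane (hF : Fintype.card F = q ^ 2) {g : SU n F q} {Y : Submodule F (Fin n → F)}
    (h2 : finrank F Y = 2) (hInv : Inv g Y) (hnd : Nd q Y) :
    ∃ v ∈ Y, v ≠ 0 ∧ ∃ c : F, act g v = c • v := by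
  let x : Module.End F Y := (lin g).restrict hInv
  have hx : ∀ u : Y, (x u : Fin n → F) = act g u := fun u => rfl
  have hdeg : x.charpoly.natDegree = 2 := by rw [LinearMap.charpoly_natDegree, h2]
  by_cases hroot : ∃ c, x.charpoly.IsRoot c
  · obtain ⟨c, hc⟩ := hroot
    rw [← Module.End.hasEigenvalue_iff_isRoot_charpoly] at hc
    obtain ⟨v, hv⟩ := hc.exists_hasEigenvector
    refine ⟨v, v.2, fun h => hv.2 (Subtype.ext h), c, ?_⟩
    rw [← hx, hv.apply_eq_smul]
    rfl
  · exfalso
    push Not at hroot
    have hirr : Irreducible x.charpoly := by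
      apply Polynomial.irreducible_of_degree_le_three_of_not_isRoot
      · rw [hdeg]; simp
      · exact hroot
    have hne : Y ≠ ⊥ := by
      rintro rfl
      rw [finrank_bot] at h2
      omega
    have hodd := not_irreducible hF hne hInv hnd hirr (by
      intro u hu
      have h3 : ∀ Q : F[X], ∀ u : Y, ((aeval x Q u : Y) : Fin n → F) = aeval (lin g) Q (u : Fin n → F) := by
        intro Q u
        induction Q using Polynomial.induction_on' with
        | add A B hA hB => simp only [map_add, LinearMap.add_apply, Submodule.coe_add, hA, hB]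
        | monomial k a =>
          simp only [aeval_monomial, Module.End.mul_apply, Module.algebraMap_end_apply,
            Submodule.coe_smul]
          congr 1
          induction k generalizing u with
          | zero => rfl
          | succ k ih => rw [pow_succ, pow_succ, Module.End.mul_apply, Module.End.mul_apply, ih]; rfl
      have h4 := h3 x.charpoly ⟨u, hu⟩
      rw [LinearMap.aeval_self_charpoly] at h4
      exact h4.symm)
    rw [hdeg] at hodd
    exact absurd hodd (by decide)

end Cfsg.Agent.H156.UPerp
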