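import Mathlib
import Cfsg.Agent.H156.UPerp

set_option autoImplicit false

/-!
# Elements of `SU₄(q)`: a nonsingular eigenvector or an invariant totally singular plane (helper156)
-/

open Cfsg

namespace Cfsg.Agent.H156.UFour

open Cfsg.Agent.LieClassical.HermBasic Cfsg.Agent.LieClassical.HermSiegel Polynomial Module
  Cfsg.Agent.H156.UBase Cfsg.Agent.H156.UPerp

variable {F : Type*} [Field F] [Fintype F] {q : ℕ}

omit [Fintype F] in
/-- The span of two vectors -/
theorem finrank_pair {n : ℕ} {v w : Fin n → F} (h : LinearIndependent F ![v, w]) :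
    finrank F (Submodule.span F {v, w}) = 2 := by
  have h1 := finrank_span_eq_card h
  rw [Matrix.range_cons_cons_empty] at h1
  simpa using h1

/-- two independent orthogonal singular eigenvectors give a totally singular invariant plane -/
theorem plane_of_pair (hF : Fintype.card F = q ^ 2) {n : ℕ} {g : SU n F q} {v w : Fin n → F}
    (h : LinearIndependent F ![v, w]) (hv : hermForm n F q v v = 0) (hw : hermForm n F q w w = 0)
    (hvw : hermForm n F q v w = 0) {c d : F} (hc : act g v = c • v) (hd : act g w = d • w) :
    ∃ W : Submodule F (Fin n → F), finrank F W = 2 ∧ (∀ a ∈ W, ∀ b ∈ W, hermForm n F q a b = 0) ∧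
      Inv g W := by
  have hwv := herm_eq_zero_swap hF hvw
  refine ⟨Submodule.span F {v, w}, finrank_pair h, ?_, ?_⟩
  · intro a ha b hb
    obtain ⟨a1, a2, rfl⟩ := Submodule.mem_span_pair.1 ha
    obtain ⟨b1, b2, rfl⟩ := Submodule.mem_span_pair.1 hb
    simp only [herm_add_left, herm_add_right hF, herm_smul_left, herm_smul_right, hv, hw, hvw, hwv]
    ring
  · intro a ha
    obtain ⟨a1, a2, rfl⟩ := Submodule.mem_span_pair.1 ha
    rw [act_add, act_smul, act_smul, hc, hd]
    exact Submodule.add_mem _ (Submodule.smul_mem _ _ (Submodule.smul_mem _ _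
      (Submodule.subset_span (by simp)))) (Submodule.smul_mem _ _ (Submodule.smul_mem _ _
      (Submodule.subset_span (by simp))))

theorem class4 (hF : Fintype.card F = q ^ 2) (g : SU 4 F q) :
    (∃ v : Fin 4 → F, hermForm 4 F q v v ≠ 0 ∧ ∃ c : F, act g v = c • v) ∨
    (∃ W : Submodule F (Fin 4 → F), finrank F W = 2 ∧
      (∀ a ∈ W, ∀ b ∈ W, hermForm 4 F q a b = 0) ∧ Inv g W) := by
  classical
  by_contra hcon
  push Not at hcon
  obtain ⟨hN, hT⟩ := hcon
  -- eigenvectors are singular
  have hsing : ∀ v : Fin 4 → F, (∃ c : F, act g v = c • v) → hermForm 4 F q v v = 0 := by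
    rintro v ⟨c, hc⟩
    by_contra h
    exact hN v h c hc
  -- independent eigenvectors are not orthogonal
  have hpair : ∀ v w : Fin 4 → F, (∃ c : F, act g v = c • v) → (∃ c : F, act g w = c • w) →
      LinearIndependent F ![v, w] → hermForm 4 F q v w ≠ 0 := by
    rintro v w ⟨c, hc⟩ ⟨d, hd⟩ hli h
    obtain ⟨W, h1, h2, h3⟩ := plane_of_pair hF hli (hsing v ⟨c, hc⟩) (hsing w ⟨d, hd⟩) h hc hd
    exact hT W h1 h2 h3
  -- one-dimensional invariant subspaces
  have hone : ∀ Y : Submodule F (Fin 4 → F), finrank F Y = 1 → Inv g Y →
      ∃ v ∈ Y, v ≠ 0 ∧ ∃ c : F, act g v = c • v := by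
    intro Y hY hI
    obtain ⟨v, hv0, hv⟩ := finrank_eq_one_iff'.1 hY
    refine ⟨v, v.2, fun h => hv0 (Subtype.ext h), ?_⟩
    obtain ⟨c, hc⟩ := hv ⟨act g v, hI v v.2⟩
    exact ⟨c, (congrArg Subtype.val hc).symm⟩
  -- no nondegenerate invariant line
  have hline : ∀ Y : Submodule F (Fin 4 → F), finrank F Y = 1 → Inv g Y → ¬ Nd q Y := by
    intro Y hY hI hnd
    obtain ⟨v, hvY, hv0, c, hc⟩ := hone Y hY hI
    apply hv0
    apply hnd v hvY
    intro w hw
    obtain ⟨d, hd⟩ := (finrank_eq_one_iff_of_nonzero' (⟨v, hvY⟩ : Y) (fun h => hv0 (congrArg Subtype.val h))).1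
      hY ⟨w, hw⟩
    have hd' : d • v = w := congrArg Subtype.val hd
    rw [← hd', herm_smul_right, hsing v ⟨c, hc⟩, mul_zero]
  -- a nondegenerate invariant plane orthogonal to an eigenvector
  have hplane : ∀ (v : Fin 4 → F), v ≠ 0 → (∃ c : F, act g v = c • v) → ∀ Y : Submodule F (Fin 4 → F),
      finrank F Y = 2 → Inv g Y → Nd q Y → (∀ w ∈ Y, hermForm 4 F q v w = 0) → False := by
    intro v hv0 hvc Y hY hI hnd hperp
    obtain ⟨w, hwY, hw0, hwc⟩ := exists_eigen_plane hF hY hI hnd
    apply hpair v w hvc hwc _ (hperp w hwY)
    rw [LinearIndependent.pair_iff' hv0]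
    intro a ha
    apply hw0
    apply hnd w hwY
    intro u hu
    rw [← ha, herm_smul_left, hperp u hu, mul_zero]
  -- Step 1: there is an eigenvector
  have hex : ∃ v : Fin 4 → F, v ≠ 0 ∧ ∃ c : F, act g v = c • v := by
    by_contra hno
    push Not at hno
    have hmp : minpoly F (lin g) ≠ 0 := minpoly.ne_zero (Algebra.IsIntegral.isIntegral _)
    obtain ⟨f, hf, hfm⟩ := WfDvdMonoid.exists_irreducible_factor
      (minpoly.not_isUnit F (lin g)) hmp
    have hroot : ∀ c, ¬ (LinearMap.charpoly (lin g)).IsRoot c := by
      intro c hc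
      rw [← Module.End.hasEigenvalue_iff_isRoot_charpoly] at hc
      obtain ⟨v, hv⟩ := hc.exists_hasEigenvector
      exact hno v hv.2 c hv.apply_eq_smul
    have hdeg : (LinearMap.charpoly (lin g)).natDegree = 4 := by
      rw [LinearMap.charpoly_natDegree, Module.finrank_fin_fun]
    have hne : LinearMap.charpoly (lin g) ≠ 0 := (LinearMap.charpoly_monic _).ne_zero
    have hlin : ∀ h : F[X], h ∣ LinearMap.charpoly (lin g) → h.natDegree ≠ 1 := by
      intro h hh h1
      have h0 : h ≠ 0 := by
        rintro rfl
        simp at h1
      have hd1 : h.degree = 1 := by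
        rw [Polynomial.degree_eq_natDegree h0, h1]; rfl
      obtain ⟨c, hc⟩ := Polynomial.exists_root_of_degree_eq_one hd1
      exact hroot c (hc.dvd hh)
    have hfc : f ∣ LinearMap.charpoly (lin g) := hfm.trans (LinearMap.minpoly_dvd_charpoly _)
    obtain ⟨h, hh⟩ := hfc
    have hh0 : h ≠ 0 := by
      rintro rfl
      rw [mul_zero] at hh
      exact hne hh
    have hsum : f.natDegree + h.natDegree = 4 := by
      rw [← Polynomial.natDegree_mul hf.ne_zero hh0, ← hh, hdeg]
    have hf1 : f.natDegree ≠ 1 := hlin f ⟨h, hh⟩
    have hh1 : h.natDegree ≠ 1 := hlin h ⟨f, by rw [hh, mul_comm]⟩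
    have hf0 : 0 < f.natDegree := hf.natDegree_pos
    have htop : (⊤ : Submodule F (Fin 4 → F)) ≠ ⊥ := top_ne_bot
    have htopnd : Nd q (⊤ : Submodule F (Fin 4 → F)) := fun u _ hu =>
      herm_nondeg hF (fun v => hu v trivial)
    have htopI : Inv g (⊤ : Submodule F (Fin 4 → F)) := fun u _ => trivial
    have hcases : f.natDegree = 2 ∨ f.natDegree = 4 := by omega
    rcases hcases with hf2 | hf4
    · -- a vector killed by `f`
      obtain ⟨u0, hu0, hfu0⟩ : ∃ u0 : Fin 4 → F, u0 ≠ 0 ∧ aeval (lin g) f u0 = 0 := by
        by_contra hinj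
        push Not at hinj
        obtain ⟨m, hm⟩ := hfm
        have hm0 : m ≠ 0 := by
          rintro rfl
          rw [mul_zero] at hm
          exact hmp hm
        have hm1 : aeval (lin g) m = 0 := by
          ext1 i
          ext1
          by_contra h3
          apply hinj _ h3
          have h4 : aeval (lin g) (f * m) = 0 := by rw [← hm]; exact minpoly.aeval _ _
          rw [map_mul] at h4
          exact LinearMap.congr_fun h4 _
        have h5 := minpoly.dvd F (lin g) hm1
        have h6 := Polynomial.natDegree_le_of_dvd h5 hm0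
        rw [hm, Polynomial.natDegree_mul hf.ne_zero hm0] at h6
        omega
      have hli : LinearIndependent F ![u0, act g u0] := by
        rw [LinearIndependent.pair_iff' hu0]
        intro a ha
        exact hno u0 hu0 a ha.symm
      set Y := Submodule.span F {u0, act g u0} with hYdef
      have hY2 : finrank F Y = 2 := finrank_pair hli
      have hYI : Inv g Y := by
        intro a ha
        obtain ⟨a1, a2, rfl⟩ := Submodule.mem_span_pair.1 ha
        rw [act_add, act_smul, act_smul]
        -- `g² u0` is in the span
        have hsq : act g (act g u0) ∈ Y := by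
          have h3 : f = C (f.coeff 0) + C (f.coeff 1) * X + C (f.coeff 2) * X ^ 2 := by
            have := Polynomial.as_sum_range_C_mul_X_pow f
            rw [hf2, Finset.sum_range_succ, Finset.sum_range_succ, Finset.sum_range_one] at this
            simpa using this
          have hc2 : f.coeff 2 ≠ 0 := by
            have : f.leadingCoeff ≠ 0 := Polynomial.leadingCoeff_ne_zero.2 hf.ne_zero
            rwa [Polynomial.leadingCoeff, hf2] at this
          have h4 := hfu0
          rw [h3] at h4
          simp only [map_add, map_mul, aeval_C, map_pow, aeval_X, LinearMap.add_apply,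
            Module.End.mul_apply, Module.algebraMap_end_apply, sq] at h4
          have h5 : act g (act g u0) = (-(f.coeff 2)⁻¹ * f.coeff 0) • u0 +
              (-(f.coeff 2)⁻¹ * f.coeff 1) • act g u0 := by
            have h6 : f.coeff 2 • act g (act g u0) = - (f.coeff 0 • u0 + f.coeff 1 • act g u0) :=
              (neg_eq_of_add_eq_zero_right h4).symm
            have h7 := congrArg (fun z => (f.coeff 2)⁻¹ • z) h6
            simp only [smul_smul, inv_mul_cancel₀ hc2, one_smul, smul_neg, smul_add] at h7
            rw [h7, neg_mul, neg_mul, neg_smul, neg_smul]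
            abel
          rw [h5]
          exact Submodule.add_mem _ (Submodule.smul_mem _ _ (Submodule.subset_span (by simp)))
            (Submodule.smul_mem _ _ (Submodule.subset_span (by simp)))
        exact Submodule.add_mem _ (Submodule.smul_mem _ _ (Submodule.subset_span (by simp)))
          (Submodule.smul_mem _ _ hsq)
      -- the radical
      have hRI : Inv g (Y ⊓ perp q Y) := fun u hu => ⟨hYI u hu.1, hYI.perp u hu.2⟩
      have hRle : finrank F (Y ⊓ perp q Y : Submodule F (Fin 4 → F)) ≤ 2 := by
        rw [← hY2]; exact Submodule.finrank_mono inf_le_left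
      have hR : finrank F (Y ⊓ perp q Y : Submodule F (Fin 4 → F)) = 0 ∨
          finrank F (Y ⊓ perp q Y : Submodule F (Fin 4 → F)) = 1 ∨
          finrank F (Y ⊓ perp q Y : Submodule F (Fin 4 → F)) = 2 := by omega
      rcases hR with hR | hR | hR
      · have hnd : Nd q Y := by
          intro u hu hv
          rw [Submodule.finrank_eq_zero] at hR
          have : u ∈ (Y ⊓ perp q Y : Submodule F (Fin 4 → F)) := ⟨hu, hv⟩
          rwa [hR, Submodule.mem_bot] at this
        obtain ⟨v, _, hv0, c, hc⟩ := exists_eigen_plane hF hY2 hYI hnd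
        exact hno v hv0 c hc
      · obtain ⟨v, _, hv0, c, hc⟩ := hone _ hR hRI
        exact hno v hv0 c hc
      · have hle : Y ≤ perp q Y := by
          have h3 : (Y ⊓ perp q Y : Submodule F (Fin 4 → F)) = Y :=
            Submodule.eq_of_le_of_finrank_eq inf_le_left (by rw [hR, hY2])
          exact inf_eq_left.1 h3
        exact hT Y hY2 (fun a ha b hb => hle ha b hb) hYI
    · -- irreducible
      have hhu : IsUnit h := by
        rw [Polynomial.isUnit_iff_degree_eq_zero, Polynomial.degree_eq_natDegree hh0]
        have : h.natDegree = 0 := by omega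
        rw [this]; rfl
      have hodd := not_irreducible hF htop htopI htopnd hf (by
        intro u _
        obtain ⟨r, hr⟩ := hhu.exists_left_inv
        have h3 : f = LinearMap.charpoly (lin g) * r := by
          rw [hh, mul_assoc, mul_comm h r, hr, mul_one]
        rw [h3, map_mul, LinearMap.aeval_self_charpoly, zero_mul, LinearMap.zero_apply])
      rw [hf4] at hodd
      exact absurd hodd (by decide)
  obtain ⟨v, hv0, l, hl⟩ := hex
  have hvv := hsing v ⟨l, hl⟩
  have hl0 : l ≠ 0 := by
    rintro rfl
    rw [zero_smul, act_eq_zero] at hl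
    exact hv0 hl
  have hlinv : act g⁻¹ v = l⁻¹ • v := by
    have h1 := congrArg (act g⁻¹) hl
    rw [act_inv_act, act_smul] at h1
    have h2 := congrArg (fun z => l⁻¹ • z) h1
    simp only [smul_smul, inv_mul_cancel₀ hl0, one_smul] at h2
    exact h2.symm
  by_cases hnorm : l * l ^ q = 1
  · -- Case B
    let N : Module.End F (Fin 4 → F) := lin g - algebraMap F _ l
    let M : Module.End F (Fin 4 → F) := lin g⁻¹ - algebraMap F _ (l ^ q)
    have hNapp : ∀ u, N u = act g u - l • u := fun u => by
      show lin g u - algebraMap F (Module.End F (Fin 4 → F)) l u = _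
      rw [Module.algebraMap_end_apply, lin_apply]
    have hMapp : ∀ u, M u = act g⁻¹ u - l ^ q • u := fun u => by
      show lin g⁻¹ u - algebraMap F (Module.End F (Fin 4 → F)) (l ^ q) u = _
      rw [Module.algebraMap_end_apply, lin_apply]
    have hadj : ∀ u w, hermForm 4 F q (N u) w = hermForm 4 F q u (M w) := fun u w => by
      rw [hNapp, hMapp, herm_sub_left, herm_sub_right hF, herm_smul_left, herm_smul_right,
        pow_q_pow_q hF, herm_act_left]
    have hadjk : ∀ (k : ℕ) (u w), hermForm 4 F q ((N ^ k) u) w = hermForm 4 F q u ((M ^ k) w) := by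
      intro k
      induction k with
      | zero => intro u w; simp
      | succ k ih =>
        intro u w
        rw [pow_succ, Module.End.mul_apply, ih, hadj, pow_succ', Module.End.mul_apply]
    -- `M = -l^q g⁻¹ N`
    have hMN : ∀ u, M u = (- l ^ q) • act g⁻¹ (N u) := fun u => by
      rw [hMapp, hNapp, act_sub, act_inv_act, act_smul, smul_sub, smul_smul, neg_smul, neg_mul,
        mul_comm (l ^ q) l, hnorm, neg_smul, one_smul]
      abel
    have hcomm : ∀ u, N (act g⁻¹ u) = act g⁻¹ (N u) := fun u => by
      rw [hNapp, hNapp, act_sub, act_act_inv, act_inv_act, act_smul]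
    have hMk : ∀ (k : ℕ) (u), (N ^ k) u = 0 → (M ^ k) u = 0 := by
      have hcommk : ∀ (k : ℕ) u, (N ^ k) (act g⁻¹ u) = act g⁻¹ ((N ^ k) u) := by
        intro k
        induction k with
        | zero => intro u; simp
        | succ k ih => intro u; rw [pow_succ', Module.End.mul_apply, ih, hcomm, Module.End.mul_apply]
      intro k
      induction k with
      | zero => intro u h; simpa using h
      | succ k ih =>
        intro u h
        rw [pow_succ, Module.End.mul_apply]
        apply ih
        rw [hMN, map_smul, hcommk]
        rw [pow_succ, Module.End.mul_apply] at h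
        rw [h, act_zero, smul_zero]
    set K := LinearMap.ker (N ^ 4) with hK
    set R := LinearMap.range (N ^ 4) with hR
    have hKR : ∀ k ∈ K, ∀ r ∈ R, hermForm 4 F q r k = 0 := by
      rintro k hk _ ⟨z, rfl⟩
      rw [hadjk, hMk 4 k (LinearMap.mem_ker.1 hk), herm_zero_right hF]
    have hinf : K ⊓ R = ⊥ := by
      rw [Submodule.eq_bot_iff]
      rintro z ⟨hz, y, rfl⟩
      have h1 : (N ^ (4 + 4)) y = 0 := by
        rw [pow_add, Module.End.mul_apply]; exact hz
      have h2 : LinearMap.ker (N ^ (4 + 4)) = LinearMap.ker (N ^ finrank F (Fin 4 → F)) :=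
        Module.End.ker_pow_eq_ker_pow_finrank_of_le (by rw [Module.finrank_fin_fun]; omega)
      rw [Module.finrank_fin_fun] at h2
      have h3 : y ∈ LinearMap.ker (N ^ (4 + 4)) := h1
      rw [h2] at h3
      exact h3
    have hrn : finrank F R + finrank F K = 4 := by
      have := LinearMap.finrank_range_add_finrank_ker (N ^ 4)
      rw [Module.finrank_fin_fun] at this
      exact this
    have hsup : K ⊔ R = ⊤ := by
      apply Submodule.eq_top_of_finrank_eq
      have h1 := Submodule.finrank_sup_add_finrank_inf_eq K R
      rw [hinf, finrank_bot] at h1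
      rw [Module.finrank_fin_fun]
      omega
    have hKnd : Nd q K := by
      intro u hu hv
      apply herm_nondeg hF
      intro w
      have hw : w ∈ K ⊔ R := by rw [hsup]; trivial
      obtain ⟨a, ha, b, hb, rfl⟩ := Submodule.mem_sup.1 hw
      rw [herm_add_right hF, hv a ha, herm_swap hF b u, hKR u hu b hb, zero_pow_q hF, add_zero]
    have hKI : Inv g K := by
      intro u hu
      have hcg : ∀ (k : ℕ) u, (N ^ k) (act g u) = act g ((N ^ k) u) := by
        intro k
        induction k with
        | zero => intro u; simp
        | succ k ih =>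
          intro u
          rw [pow_succ', Module.End.mul_apply, ih, Module.End.mul_apply, hNapp, hNapp, act_sub, act_smul]
      rw [hK, LinearMap.mem_ker, hcg, LinearMap.mem_ker.1 hu, act_zero]
    have hNv : N v = 0 := by rw [hNapp, hl, sub_self]
    have hvK : v ∈ K := by
      rw [hK, LinearMap.mem_ker, pow_succ, Module.End.mul_apply, hNv, map_zero]
    have hperp := finrank_perp hF K
    have hpI : Inv g (perp q K) := hKI.perp
    have hpnd : Nd q (perp q K) := hKnd.perp hF
    have hKpos : finrank F K ≠ 0 := by
      intro h
      rw [Submodule.finrank_eq_zero] at h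
      rw [h, Submodule.mem_bot] at hvK
      exact hv0 hvK
    have hcases : finrank F K = 1 ∨ finrank F K = 2 ∨ finrank F K = 3 ∨ finrank F K = 4 := by omega
    rcases hcases with h | h | h | h
    · exact hline K h hKI hKnd
    · refine hplane v hv0 ⟨l, hl⟩ (perp q K) (by omega) hpI hpnd (fun w hw => ?_)
      exact herm_eq_zero_swap hF (hw v hvK)
    · exact hline (perp q K) (by omega) hpI hpnd
    · -- unipotent case
      have hKtop : K = ⊤ := Submodule.eq_top_of_finrank_eq (by rw [h, Module.finrank_fin_fun])
      have hN4 : ∀ u, (N ^ 4) u = 0 := fun u => by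
        have : u ∈ K := by rw [hKtop]; trivial
        exact this
      -- the kernel of `N` is a line
      have hker1 : finrank F (LinearMap.ker N) ≤ 1 := by
        by_contra h2
        push Not at h2
        obtain ⟨w, hw, hwv⟩ : ∃ w ∈ LinearMap.ker N, w ∉ Submodule.span F {v} := by
          by_contra hcon
          push Not at hcon
          have hle : LinearMap.ker N ≤ Submodule.span F {v} := hcon
          have := Submodule.finrank_mono hle
          rw [finrank_span_singleton hv0] at this
          omega
        have hgw : act g w = l • w := by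
          have h3 : N w = 0 := hw
          rw [hNapp, sub_eq_zero] at h3
          exact h3
        have hli : LinearIndependent F ![v, w] := by
          rw [LinearIndependent.pair_iff' hv0]
          intro a ha
          exact hwv (Submodule.mem_span_singleton.2 ⟨a, ha⟩)
        have hne := hpair v w ⟨l, hl⟩ ⟨l, hgw⟩ hli
        -- `v + c w` is an eigenvector for every `c`
        have h4 : ∀ c : F, c ^ q * hermForm 4 F q v w + (c ^ q * hermForm 4 F q v w) ^ q = 0 := by
          intro c
          have h5 := hsing (v + c • w) ⟨l, by rw [act_add, act_smul, hl, hgw, smul_add, smul_comm]⟩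
          simp only [herm_add_left, herm_add_right hF, herm_smul_left, herm_smul_right, hvv,
            hsing w ⟨l, hgw⟩, mul_zero, add_zero, zero_add] at h5
          rw [mul_pow, pow_q_pow_q hF, ← herm_swap hF v w]
          linear_combination h5
        apply hne
        apply eq_zero_of_forall_trace hF
        intro c
        have h6 := h4 (c ^ q)
        rwa [pow_q_pow_q hF] at h6
      -- the range of `N²`
      have hker2 : finrank F (LinearMap.ker (N ^ 2)) ≤ 2 := by
        have h3 : finrank F (LinearMap.ker (N ^ 2)) ≤
            finrank F (LinearMap.ker N) + finrank F (LinearMap.ker N) := by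
          let T : LinearMap.ker (N ^ 2) →ₗ[F] LinearMap.ker N :=
            (N.domRestrict _).codRestrict _ (fun u => by
              have h5 : ∀ y : Fin 4 → F, (N ^ 2) y = 0 → N (N y) = 0 := by
                intro y hy
                rw [sq, Module.End.mul_apply] at hy
                exact hy
              exact h5 u.1 u.2)
          have hr := LinearMap.finrank_range_add_finrank_ker T
          have hr1 : finrank F (LinearMap.range T) ≤ finrank F (LinearMap.ker N) :=
            Submodule.finrank_le _
          have hr2 : finrank F (LinearMap.ker T) ≤ finrank F (LinearMap.ker N) := by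
            let S : LinearMap.ker T →ₗ[F] LinearMap.ker N :=
              ((LinearMap.ker (N ^ 2)).subtype ∘ₗ (LinearMap.ker T).subtype).codRestrict _ (fun u => by
                have := u.2
                rw [LinearMap.mem_ker] at this
                exact congrArg Subtype.val this)
            apply LinearMap.finrank_le_finrank_of_injective (f := S)
            intro a b hab
            have h5 := congrArg Subtype.val hab
            exact Subtype.ext (Subtype.ext h5)
          omega
        omega
      have hrange := LinearMap.finrank_range_add_finrank_ker (N ^ 2)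
      rw [Module.finrank_fin_fun] at hrange
      have hts : ∀ a ∈ LinearMap.range (N ^ 2), ∀ b ∈ LinearMap.range (N ^ 2), hermForm 4 F q a b = 0 := by
        rintro _ ⟨a, rfl⟩ _ ⟨b, rfl⟩
        rw [hadjk, hMk 2, herm_zero_right hF]
        rw [← Module.End.mul_apply, ← pow_add]
        exact hN4 b
      have hle2 : finrank F (LinearMap.range (N ^ 2)) ≤ 2 := by
        have h3 : LinearMap.range (N ^ 2) ≤ perp q (LinearMap.range (N ^ 2)) := fun a ha b hb => hts a ha b hb
        have h4 := Submodule.finrank_mono h3
        have h5 := finrank_perp hF (LinearMap.range (N ^ 2))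
        omega
      refine hT (LinearMap.range (N ^ 2)) (by omega) hts ?_
      rintro _ ⟨a, rfl⟩
      refine ⟨act g a, ?_⟩
      simp only [sq, Module.End.mul_apply, hNapp, act_sub, act_smul]
  · -- Case A
    obtain ⟨m, hm⟩ : ∃ m : F, m = (l ^ q)⁻¹ := ⟨_, rfl⟩
    have hmq : m ^ q = l⁻¹ := by rw [hm, inv_pow, pow_q_pow_q hF]
    obtain ⟨w, hw0, hw⟩ : ∃ w : Fin 4 → F, w ≠ 0 ∧ act g w = m • w := by
      by_contra hcon
      push Not at hcon
      let N : Module.End F (Fin 4 → F) := lin g - algebraMap F _ m
      have hNapp : ∀ u, N u = act g u - m • u := fun u => by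
        show lin g u - algebraMap F (Module.End F (Fin 4 → F)) m u = _
        rw [Module.algebraMap_end_apply, lin_apply]
      have hinj : Function.Injective N := by
        rw [injective_iff_map_eq_zero]
        intro u hu
        by_contra hu0
        apply hcon u hu0
        rw [hNapp, sub_eq_zero] at hu
        exact hu
      have hsurj := LinearMap.injective_iff_surjective.1 hinj
      apply hv0
      apply herm_nondeg hF
      intro z
      obtain ⟨y, rfl⟩ := hsurj z
      rw [hNapp, herm_sub_right hF, herm_smul_right, hmq]
      have h1 : hermForm 4 F q v (act g y) = hermForm 4 F q (act g⁻¹ v) y := by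
        rw [herm_act_left, inv_inv]
      rw [h1, hlinv, herm_smul_left, sub_self]
    have hlm : l ≠ m := by
      intro h
      apply hnorm
      rw [← h] at hmq
      rw [hmq]
      exact mul_inv_cancel₀ hl0
    have hli : LinearIndependent F ![v, w] := by
      rw [LinearIndependent.pair_iff' hv0]
      intro a ha
      have h1 : m • w = l • w := by
        rw [← hw, ← ha, act_smul, hl, smul_comm]
      have h2 : (m - l) • w = 0 := by rw [sub_smul, h1, sub_self]
      rcases smul_eq_zero.1 h2 with h | h
      · exact hlm (sub_eq_zero.1 h).symm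
      · exact hw0 h
    have hvw := hpair v w ⟨l, hl⟩ ⟨m, hw⟩ hli
    have hww := hsing w ⟨m, hw⟩
    set Y := Submodule.span F {v, w} with hY
    have hY2 : finrank F Y = 2 := finrank_pair hli
    have hYI : Inv g Y := by
      intro a ha
      obtain ⟨a1, a2, rfl⟩ := Submodule.mem_span_pair.1 ha
      rw [act_add, act_smul, act_smul, hl, hw]
      exact Submodule.add_mem _ (Submodule.smul_mem _ _ (Submodule.smul_mem _ _
        (Submodule.subset_span (by simp)))) (Submodule.smul_mem _ _ (Submodule.smul_mem _ _
        (Submodule.subset_span (by simp))))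
    have hvY : v ∈ Y := Submodule.subset_span (by simp)
    have hwY : w ∈ Y := Submodule.subset_span (by simp)
    have hYnd : Nd q Y := by
      intro a ha hb
      obtain ⟨a1, a2, rfl⟩ := Submodule.mem_span_pair.1 ha
      have h1 := hb v hvY
      have h2 := hb w hwY
      rw [herm_add_left, herm_smul_left, herm_smul_left, hvv, mul_zero, zero_add] at h1
      rw [herm_add_left, herm_smul_left, herm_smul_left, hww, mul_zero, add_zero] at h2
      have hwv : hermForm 4 F q w v ≠ 0 := fun h => hvw (herm_eq_zero_swap hF h)
      have h3 := (mul_eq_zero.1 h1).resolve_right hwv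
      have h4 := (mul_eq_zero.1 h2).resolve_right hvw
      rw [h3, h4, zero_smul, zero_smul, add_zero]
    have hperp := finrank_perp hF Y
    refine hplane v hv0 ⟨l, hl⟩ (perp q Y) (by omega) hYI.perp (hYnd.perp hF) (fun z hz => ?_)
    exact herm_eq_zero_swap hF (hz v hvY)

end Cfsg.Agent.H156.UFour
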