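import Mathlib
import Cfsg.Agent.H156.Cov
import Cfsg.Agent.H156.UFour
import Cfsg.Agent.ClassicalGeometry.GUBasic
import Cfsg.Agent.ClassicalGeometry.HermOrtho
import Cfsg.Agent.ClassicalGeometry.HermFrame
import Cfsg.Agent.ClassicalGeometry.UnitTransv
import Cfsg.Agent.ClassicalGeometry.PSUAutBasic
import Cfsg.Agent.ClassicalGeometry.PSUAutTorus
import Cfsg.Agent.ClassicalGeometry.HermWitt

set_option autoImplicit false

/-!
# Stabilisers of lines and totally singular planes in `SU`, the covering of `PSU₄` (helper156)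
-/

open Cfsg

namespace Cfsg.Agent.H156.UStab

open Cfsg.Agent.LieClassical.HermBasic Cfsg.Agent.LieClassical.HermSiegel Polynomial Module
  Cfsg.Agent.H156.UBase Cfsg.Agent.H156.UPerp Matrix

variable {F : Type*} [Field F] [Fintype F] {q n : ℕ}

/-- The stabiliser of a subspace. -/
def stab (q : ℕ) (W : Submodule F (Fin n → F)) : Subgroup (SU n F q) where
  carrier := {g | Inv g W}
  mul_mem' {a b} ha hb := by
    intro u hu
    rw [act_mul]
    exact ha _ (hb u hu)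
  one_mem' := by
    intro u hu
    rw [act_one]
    exact hu
  inv_mem' {a} ha := ha.inv

omit [Fintype F] in
theorem mem_stab {W : Submodule F (Fin n → F)} {g : SU n F q} : g ∈ stab q W ↔ Inv g W := Iff.rfl

/-- the centre stabilises everything -/
theorem center_le_stab (hF : Fintype.card F = q ^ 2) (hn : 3 ≤ n) (W : Submodule F (Fin n → F)) :
    Subgroup.center (SU n F q) ≤ stab q W := by
  intro z hz u hu
  obtain ⟨c, _, _, hc⟩ := Cfsg.Agent.ClassicalGeometry.PSUAutBasic.exists_scalar_of_mem_center hF hn hz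
  rw [hc]
  exact W.smul_mem c hu

/-- Conjugation into a stabiliser. -/
theorem conj_into {W W' : Submodule F (Fin n → F)}
    {M R : Matrix (Fin n) (Fin n) F}
    (hM : ∀ u v, hermForm n F q (M *ᵥ u) (M *ᵥ v) = hermForm n F q u v)
    (hMW : ∀ v, M *ᵥ v ∈ W' ↔ v ∈ W)
    (hR : ∀ u v, hermForm n F q (R *ᵥ u) (R *ᵥ v) = hermForm n F q u v)
    (hRW : ∀ v ∈ W', R *ᵥ v ∈ W')
    (hdet : R.det * M.det = 1) {g : SU n F q} (hg : Inv g W) :
    ∃ x : SU n F q, x * g * x⁻¹ ∈ stab q W' := by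
  let x : SU n F q := mkSU (R * M) (by rw [det_mul, hdet]) (fun u v => by
    rw [← mulVec_mulVec, ← mulVec_mulVec, hR, hM])
  have hx : ∀ u, act x u = R *ᵥ (M *ᵥ u) := fun u => by
    show (R * M) *ᵥ u = _
    rw [mulVec_mulVec]
  have h1 : W.map (lin x) = W' := by
    apply Submodule.eq_of_le_of_finrank_eq
    · rintro _ ⟨u, hu, rfl⟩
      rw [lin_apply, hx]
      exact hRW _ ((hMW u).2 hu)
    · have hinj : Function.Injective (M.mulVecLin) := by
        intro a b hab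
        have h2 : M *ᵥ a = M *ᵥ b := hab
        have h3 : IsUnit M := by
          rw [Matrix.isUnit_iff_isUnit_det]
          exact IsUnit.of_mul_eq_one_right _ hdet
        exact Matrix.mulVec_injective_iff_isUnit.2 h3 h2
      have h2 : W.map M.mulVecLin = W' := by
        apply le_antisymm
        · rintro _ ⟨u, hu, rfl⟩
          exact (hMW u).2 hu
        · intro w hw
          have hsurj := LinearMap.injective_iff_surjective.1 hinj
          obtain ⟨u, rfl⟩ := hsurj w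
          exact ⟨u, (hMW u).1 hw, rfl⟩
      rw [← (Submodule.equivMapOfInjective (lin x) (act_injective x) W).finrank_eq,
        (Submodule.equivMapOfInjective _ hinj W).finrank_eq, h2]
  refine ⟨x, ?_⟩
  intro u hu
  rw [← h1] at hu ⊢
  obtain ⟨w, hw, rfl⟩ := hu
  rw [act_mul, act_mul, lin_apply, act_inv_act]
  exact ⟨act g w, hg w hw, rfl⟩

omit [Fintype F] in
/-- The norm-one scalars. -/
theorem norm_of_det {δ : F} (h : δ ^ (q + 1) = 1) : δ * δ ^ q = 1 := by
  rw [← pow_succ']; exact h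

/-- `SU` is transitive on nonsingular lines. -/
theorem line_into (hF : Fintype.card F = q ^ 2) (hn : 1 ≤ n) {v w : Fin n → F}
    (hv : hermForm n F q v v ≠ 0) (hw : hermForm n F q w w = 1) {g : SU n F q} {c : F}
    (hg : act g v = c • v) :
    ∃ x : SU n F q, x * g * x⁻¹ ∈ stab q (Submodule.span F {w}) := by
  have hnd : ∀ v : Fin n → F, hermForm n F q v v ≠ 0 → Nd q (Submodule.span F {v}) := by
    intro v hv u hu h
    obtain ⟨a, rfl⟩ := Submodule.mem_span_singleton.1 hu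
    have h1 := h v (Submodule.mem_span_singleton_self v)
    rw [herm_smul_left, mul_eq_zero] at h1
    rw [h1.resolve_right hv, zero_smul]
  have hone : ∀ v : Fin n → F, hermForm n F q v v ≠ 0 → finrank F (Submodule.span F {v}) = 1 := by
    intro v hv
    apply finrank_span_singleton
    rintro rfl
    exact hv (herm_zero_left 0)
  obtain ⟨m, rfl⟩ : ∃ m, n = 1 + m := ⟨n - 1, by omega⟩
  have hw0 : hermForm (1 + m) F q w w ≠ 0 := by rw [hw]; exact one_ne_zero
  obtain ⟨P, hP, hPx⟩ := Cfsg.Agent.ClassicalGeometry.HermOrtho.exists_GU_adapted hF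
    (k := 1) (m := m) finSumFinEquiv (Submodule.span F {v}) (hnd v hv) (hone v hv)
  obtain ⟨P', hP', hPx'⟩ := Cfsg.Agent.ClassicalGeometry.HermOrtho.exists_GU_adapted hF
    (k := 1) (m := m) finSumFinEquiv (Submodule.span F {w}) (hnd w hw0) (hone w hw0)
  let M : Matrix (Fin (1 + m)) (Fin (1 + m)) F := ((P' * P⁻¹ : Matrix.GeneralLinearGroup (Fin (1 + m)) F) :
    Matrix (Fin (1 + m)) (Fin (1 + m)) F)
  have hMmem : (P' * P⁻¹ : Matrix.GeneralLinearGroup (Fin (1 + m)) F) ∈ GU (1 + m) F q :=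
    mul_mem hP' (inv_mem hP)
  have hM : ∀ u v, hermForm (1 + m) F q (M *ᵥ u) (M *ᵥ v) = hermForm (1 + m) F q u v := hMmem
  have hMW : ∀ u, M *ᵥ u ∈ Submodule.span F {w} ↔ u ∈ Submodule.span F {v} := by
    intro u
    have h1 : M *ᵥ u = (P' : Matrix (Fin (1 + m)) (Fin (1 + m)) F) *ᵥ
        (((P⁻¹ : Matrix.GeneralLinearGroup (Fin (1 + m)) F) : Matrix (Fin (1 + m)) (Fin (1 + m)) F) *ᵥ u) := by
      rw [mulVec_mulVec]; rfl
    have h2 : (P : Matrix (Fin (1 + m)) (Fin (1 + m)) F) *ᵥ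
        (((P⁻¹ : Matrix.GeneralLinearGroup (Fin (1 + m)) F) : Matrix (Fin (1 + m)) (Fin (1 + m)) F) *ᵥ u) = u := by
      rw [mulVec_mulVec, ← Units.val_mul, mul_inv_cancel, Units.val_one, one_mulVec]
    rw [h1, hPx', ← hPx, h2]
  have hδ := norm_of_det (Cfsg.Agent.ClassicalGeometry.GUBasic.det_pow hF hM)
  have hδ0 : M.det ≠ 0 := fun h => by rw [h, zero_mul] at hδ; exact zero_ne_one hδ
  have hδq : M.det ^ q = (M.det)⁻¹ := eq_inv_of_mul_eq_one_right hδ
  refine conj_into (R := Cfsg.Agent.ClassicalGeometry.UnitTransv.rankOne q (((M.det)⁻¹ - 1) • w) w)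
    hM hMW (Cfsg.Agent.ClassicalGeometry.PSUAutTorus.rankOne_herm hF hw ?_) ?_ ?_ (W := Submodule.span F {v}) ?_
  · rw [sub_pow_q hF, one_pow, inv_pow, hδq, inv_inv]
    field_simp
    ring
  · intro u hu
    rw [Cfsg.Agent.ClassicalGeometry.UnitTransv.rankOne_mulVec]
    exact Submodule.add_mem _ hu (Submodule.smul_mem _ _ (Submodule.smul_mem _ _
      (Submodule.mem_span_singleton_self w)))
  · rw [Cfsg.Agent.ClassicalGeometry.UnitTransv.det_rankOne, herm_smul_left, hw, mul_one,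
      add_sub_cancel, inv_mul_cancel₀ hδ0]
  · intro u hu
    obtain ⟨a, rfl⟩ := Submodule.mem_span_singleton.1 hu
    rw [act_smul, hg]
    exact Submodule.smul_mem _ _ (Submodule.smul_mem _ _ (Submodule.mem_span_singleton_self v))

/-- the form in terms of a Gram matrix -/
theorem herm_gram (hF : Fintype.card F = q ^ 2) {ι : Type*} [Fintype ι] (P : Matrix (Fin n) ι F)
    (x y : ι → F) : hermForm n F q (P *ᵥ x) (P *ᵥ y) =
      x ⬝ᵥ ((Pᵀ * P.map (conj hF)) *ᵥ (fun i => y i ^ q)) := by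
  have h1 : (fun i => (P *ᵥ y) i ^ q) = P.map (conj hF) *ᵥ (fun i => y i ^ q) := by
    funext i
    show (∑ j, P i j * y j) ^ q = ∑ j, (P.map (conj hF)) i j * y j ^ q
    rw [sum_pow_q hF]
    refine Finset.sum_congr rfl fun j _ => ?_
    rw [mul_pow, Matrix.map_apply, conj_apply]
  have h2 : hermForm n F q (P *ᵥ x) (P *ᵥ y) = (P *ᵥ x) ⬝ᵥ (fun i => (P *ᵥ y) i ^ q) := rfl
  rw [h2, h1, ← mulVec_mulVec, Matrix.mulVec_transpose, dotProduct_comm (P *ᵥ x),
    Matrix.dotProduct_mulVec, dotProduct_comm]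

open Cfsg.Agent.ClassicalGeometry.HermFrame (gramJ gramJ_def) in
/-- `SU₄` is transitive on totally singular planes. -/
theorem plane_into (hF : Fintype.card F = q ^ 2) {W W' : Submodule F (Fin 4 → F)}
    (h2 : finrank F W = 2) (hW : ∀ u ∈ W, ∀ v ∈ W, hermForm 4 F q u v = 0)
    (h2' : finrank F W' = 2) (hW' : ∀ u ∈ W', ∀ v ∈ W', hermForm 4 F q u v = 0)
    {g : SU 4 F q} (hg : Inv g W) :
    ∃ x : SU 4 F q, x * g * x⁻¹ ∈ stab q W' := by
  obtain ⟨P, Q, hPQ, hQP, hG, hmem⟩ := Cfsg.Agent.ClassicalGeometry.HermFrame.exists_frame_matrix hF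
    (k := 2) (m := 0) rfl h2 hW
  obtain ⟨P', Q', hPQ', hQP', hG', hmem'⟩ := Cfsg.Agent.ClassicalGeometry.HermFrame.exists_frame_matrix hF
    (k := 2) (m := 0) rfl h2' hW'
  have hM : ∀ u v, hermForm 4 F q ((P' * Q) *ᵥ u) ((P' * Q) *ᵥ v) = hermForm 4 F q u v := by
    intro u v
    rw [← mulVec_mulVec, ← mulVec_mulVec, herm_gram hF, hG', ← hG, ← herm_gram hF, mulVec_mulVec,
      mulVec_mulVec, hPQ, one_mulVec, one_mulVec]
  have hδ := norm_of_det (Cfsg.Agent.ClassicalGeometry.GUBasic.det_pow hF hM)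
  set δ := (P' * Q).det with hdel
  have hδ0 : δ ≠ 0 := fun h => by rw [h, zero_mul] at hδ; exact zero_ne_one hδ
  have hδq : δ ^ q = δ⁻¹ := eq_inv_of_mul_eq_one_right hδ
  -- Hilbert 90
  obtain ⟨b, hb0, hb⟩ : ∃ b : F, b ≠ 0 ∧ b * (b ^ q)⁻¹ = δ⁻¹ := by
    obtain ⟨x0, hx0⟩ := exists_not_fixed hF
    obtain ⟨y, hy0, hy⟩ := Cfsg.Agent.ClassicalGeometry.HermWitt.hilbert90 (conj hF : F →+* F)
      (fun h => hx0 (by
        have := congrArg (fun f : F →+* F => f x0) h
        exact this)) (fun a => pow_q_pow_q hF a) δ⁻¹ (by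
        show δ⁻¹ * (δ⁻¹) ^ q = 1
        rw [inv_pow, hδq, inv_inv, inv_mul_cancel₀ hδ0])
    refine ⟨y, hy0, ?_⟩
    have hy' : δ⁻¹ * y ^ q = y := hy
    rw [eq_comm, eq_mul_inv_iff_mul_eq₀ (pow_ne_zero _ hy0)]
    exact hy'
  have hbq : b ^ q ≠ 0 := pow_ne_zero _ hb0
  let d : Fin 2 ⊕ (Fin 0 ⊕ Fin 2) → F := Sum.elim ![b, 1] (Sum.elim ![] ![(b ^ q)⁻¹, 1])
  have hD : ∀ x y : Fin 2 ⊕ (Fin 0 ⊕ Fin 2) → F,
      (Matrix.diagonal d *ᵥ x) ⬝ᵥ (gramJ 2 0 F *ᵥ (fun i => (Matrix.diagonal d *ᵥ y) i ^ q)) =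
        x ⬝ᵥ (gramJ 2 0 F *ᵥ (fun i => y i ^ q)) := by
    intro x y
    have hbqq : (b ^ q) ^ q = b := pow_q_pow_q hF b
    simp only [gramJ_def, dotProduct, Matrix.mulVec, Fintype.sum_sum_type,
      Fin.sum_univ_two, Fin.sum_univ_zero, d]
    simp
    rw [mul_pow, mul_pow, inv_pow, hbqq]
    field_simp
  have hR : ∀ u v, hermForm 4 F q ((P' * Matrix.diagonal d * Q') *ᵥ u)
      ((P' * Matrix.diagonal d * Q') *ᵥ v) = hermForm 4 F q u v := by
    intro u v
    rw [← mulVec_mulVec, ← mulVec_mulVec, ← mulVec_mulVec, ← mulVec_mulVec, herm_gram hF, hG', hD,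
      ← hG', ← herm_gram hF, mulVec_mulVec, mulVec_mulVec, hPQ', one_mulVec, one_mulVec]
  refine conj_into hM ?_ hR ?_ ?_ hg
  · intro u
    rw [hmem', hmem, mulVec_mulVec, ← Matrix.mul_assoc, hQP', Matrix.one_mul]
  · intro u hu
    rw [hmem'] at hu ⊢
    intro a
    rw [mulVec_mulVec, ← Matrix.mul_assoc, ← Matrix.mul_assoc, hQP', Matrix.one_mul, ← mulVec_mulVec,
      Matrix.mulVec_diagonal, hu a, mul_zero]
  · rw [Matrix.det_conj_of_mul_eq_one hPQ' hQP', Matrix.det_diagonal, ← hdel]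
    simp only [Fintype.prod_sum_type, Fin.prod_univ_two, Fin.prod_univ_zero, d]
    simp [hb, inv_mul_cancel₀ hδ0]

/-- the stabiliser of a totally singular subspace is proper -/
theorem stab_ne_top_of_ts (hF : Fintype.card F = q ^ 2) {k m : ℕ} (hn : n = k + (m + k)) (hk : 0 < k)
    {W : Submodule F (Fin n → F)}
    (h2 : finrank F W = k) (hW : ∀ u ∈ W, ∀ v ∈ W, hermForm n F q u v = 0) : stab q W ≠ ⊤ := by
  intro htop
  obtain ⟨e, g, f, hspan, hee, heg, hef, hgg, hgf, hff⟩ :=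
    Cfsg.Agent.ClassicalGeometry.HermFrame.exists_frame hF hn h2 hW
  obtain ⟨c, hc0, hc⟩ := exists_trace_zero_ne hF
  have he : e ⟨0, hk⟩ ∈ W := by rw [← hspan]; exact Submodule.subset_span ⟨_, rfl⟩
  have hmem : Cfsg.Agent.ClassicalGeometry.UnitTransv.utv hF (f ⟨0, hk⟩) c (hff _ _) hc ∈ stab q W := by
    rw [htop]; trivial
  have h3 := hmem _ he
  have h4 : act (Cfsg.Agent.ClassicalGeometry.UnitTransv.utv hF (f ⟨0, hk⟩) c (hff _ _) hc)
      (e ⟨0, hk⟩) = _ := Cfsg.Agent.ClassicalGeometry.UnitTransv.act_utv hF (hff _ _) hc (e ⟨0, hk⟩)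
  rw [h4, hef, if_pos rfl, mul_one] at h3
  have h5 : f ⟨0, hk⟩ ∈ W := by
    have h6 := (Submodule.add_mem_iff_right W he).1 h3
    exact (W.smul_mem_iff hc0).1 h6
  have h7 := hW _ he _ h5
  rw [hef, if_pos rfl] at h7
  exact one_ne_zero h7

/-- the stabiliser of a nonsingular line is proper -/
theorem stab_ne_top_of_line (hF : Fintype.card F = q ^ 2) {m : ℕ} :
    stab q (Submodule.span F {(Pi.single 0 1 : Fin (m + 3) → F)}) ≠ ⊤ := by
  intro htop
  obtain ⟨c, hc0, hc⟩ := exists_trace_zero_ne hF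
  obtain ⟨a, ha⟩ := exists_norm_eq hF (c := (-1 : F)) (by rw [neg_pow_q hF, one_pow])
  have ha0 : a ≠ 0 := by
    rintro rfl
    rw [zero_mul] at ha
    exact one_ne_zero (neg_eq_zero.1 ha.symm)
  have h10 : (0 : Fin (m + 3)) ≠ 1 := by
    intro h
    have := congrArg Fin.val h
    simp at this
  set f : Fin (m + 3) → F := Pi.single 0 1 + Pi.single 1 a with hf
  have hef : hermForm (m + 3) F q (Pi.single 0 1) f = 1 := by
    rw [herm_single_left, hf]
    simp [h10]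
  have hff : hermForm (m + 3) F q f f = 0 := by
    have h1 : f 0 = 1 := by rw [hf]; simp [h10]
    have h2 : f 1 = a := by rw [hf]; simp [h10.symm]
    conv_lhs => rw [hf]
    rw [← hf, herm_add_left, herm_single_left, herm_single_left, h1, h2, one_pow, ha]
    ring
  have hmem : Cfsg.Agent.ClassicalGeometry.UnitTransv.utv hF f c hff hc ∈
      stab q (Submodule.span F {(Pi.single 0 1 : Fin (m + 3) → F)}) := by
    rw [htop]; trivial
  have h3 := hmem _ (Submodule.mem_span_singleton_self _)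
  have h4 : act (Cfsg.Agent.ClassicalGeometry.UnitTransv.utv hF f c hff hc)
      (Pi.single 0 1) = _ := Cfsg.Agent.ClassicalGeometry.UnitTransv.act_utv hF hff hc (Pi.single 0 1)
  rw [h4, hef, mul_one] at h3
  obtain ⟨r, hr⟩ := Submodule.mem_span_singleton.1 h3
  have h5 := congrFun hr 1
  have h2 : f 1 = a := by rw [hf]; simp [h10.symm]
  rw [Pi.smul_apply, Pi.add_apply, Pi.smul_apply, h2, Pi.single_eq_of_ne h10.symm, smul_zero, zero_add,
    smul_eq_mul] at h5
  exact mul_ne_zero hc0 ha0 h5.symm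

theorem psu4 (hF : Fintype.card F = q ^ 2) :
    ∃ H K : Subgroup (Cfsg.PSU 4 F q), H ≠ ⊤ ∧ K ≠ ⊤ ∧ ∀ g : (Cfsg.PSU 4 F q),
      ∃ x : (Cfsg.PSU 4 F q), x * g * x⁻¹ ∈ H ∨ x * g * x⁻¹ ∈ K := by
  classical
  have hw : hermForm 4 F q (Pi.single 0 1) (Pi.single 0 1) = 1 := by
    rw [herm_single_left]; simp
  by_cases hex : ∃ W : Submodule F (Fin 4 → F), finrank F W = 2 ∧
      (∀ a ∈ W, ∀ b ∈ W, hermForm 4 F q a b = 0)
  · obtain ⟨W', h2', hW'⟩ := hex
    refine TwoCov.quot _ (stab q (Submodule.span F {(Pi.single 0 1 : Fin (1 + 3) → F)})) (stab q W')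
      (stab_ne_top_of_line hF) (stab_ne_top_of_ts hF (k := 2) (m := 0) rfl (by norm_num) h2' hW')
      (center_le_stab hF (by norm_num) _) (center_le_stab hF (by norm_num) _) ?_
    intro g
    rcases UFour.class4 hF g with ⟨v, hv, c, hc⟩ | ⟨W, h2, hW, hg⟩
    · obtain ⟨x, hx⟩ := line_into hF (by norm_num) hv hw hc
      exact ⟨x, Or.inl hx⟩
    · obtain ⟨x, hx⟩ := plane_into hF h2 hW h2' hW' hg
      exact ⟨x, Or.inr hx⟩
  · refine TwoCov.quot _ (stab q (Submodule.span F {(Pi.single 0 1 : Fin (1 + 3) → F)}))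
      (stab q (Submodule.span F {(Pi.single 0 1 : Fin (1 + 3) → F)}))
      (stab_ne_top_of_line hF) (stab_ne_top_of_line hF)
      (center_le_stab hF (by norm_num) _) (center_le_stab hF (by norm_num) _) ?_
    intro g
    rcases UFour.class4 hF g with ⟨v, hv, c, hc⟩ | ⟨W, h2, hW, hg⟩
    · obtain ⟨x, hx⟩ := line_into hF (by norm_num) hv hw hc
      exact ⟨x, Or.inl hx⟩
    · exact absurd ⟨W, h2, hW⟩ hex

end Cfsg.Agent.H156.UStab
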