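import Mathlib
import Cfsg.Agent.H156.Art
import Cfsg.Agent.H156.UAdj
import Cfsg.Agent.H156.PSLCov

set_option autoImplicit false

/-!
# Elements of `SU₃(q)`, `q` a power of three (helper156)
-/

open Cfsg

namespace Cfsg.Agent.H156.UThree

open Cfsg.Agent.LieClassical.HermBasic Cfsg.Agent.LieClassical.HermSiegel Polynomial Module
  Cfsg.Agent.H156.UBase Cfsg.Agent.H156.UPerp Matrix Cfsg.Agent.H156.Art Cfsg.Agent.H156.UAdj

variable {F : Type*} [Field F] [Fintype F] {q : ℕ}

/-- no totally singular plane in dimension three -/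
theorem no_ts_plane (hF : Fintype.card F = q ^ 2) (W : Submodule F (Fin 3 → F)) (h2 : finrank F W = 2)
    (hW : ∀ a ∈ W, ∀ b ∈ W, hermForm 3 F q a b = 0) : False := by
  have h1 := finrank_perp hF W
  have h3 : W ≤ perp q W := fun a ha b hb => hW a ha b hb
  have h4 := Submodule.finrank_mono h3
  omega

theorem class3 (hF : Fintype.card F = q ^ 2) [CharP F 3] (g : SU 3 F q)
    (hN : ∀ v : Fin 3 → F, hermForm 3 F q v v ≠ 0 → ∀ c : F, act g v ≠ c • v) :
    (∀ v : Fin 3 → F, v ≠ 0 → ∀ c : F, act g v ≠ c • v) ∨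
    (∃ v : Fin 3 → F, v ≠ 0 ∧ act g v = v ∧ (mat g - 1) ^ 3 = 0 ∧
      ∀ u : Fin 3 → F, act g u = u → ∃ a : F, u = a • v) := by
  classical
  by_contra hcon
  push Not at hcon
  obtain ⟨⟨v, hv0, l, hl⟩, hT⟩ := hcon
  -- eigenvectors are singular
  have hsing : ∀ v : Fin 3 → F, (∃ c : F, act g v = c • v) → hermForm 3 F q v v = 0 := by
    rintro v ⟨c, hc⟩
    by_contra h
    exact hN v h c hc
  -- independent eigenvectors are not orthogonal
  have hpair : ∀ v w : Fin 3 → F, (∃ c : F, act g v = c • v) → (∃ c : F, act g w = c • w) →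
      LinearIndependent F ![v, w] → hermForm 3 F q v w ≠ 0 := by
    rintro v w ⟨c, hc⟩ ⟨d, hd⟩ hli h
    obtain ⟨W, h1, h2, h3⟩ := UFour.plane_of_pair hF hli (hsing v ⟨c, hc⟩) (hsing w ⟨d, hd⟩) h hc hd
    exact no_ts_plane hF W h1 h2
  -- one-dimensional invariant subspaces
  have hone : ∀ Y : Submodule F (Fin 3 → F), finrank F Y = 1 → Inv g Y →
      ∃ v ∈ Y, v ≠ 0 ∧ ∃ c : F, act g v = c • v := by
    intro Y hY hI
    obtain ⟨v, hv0, hv⟩ := finrank_eq_one_iff'.1 hY
    refine ⟨v, v.2, fun h => hv0 (Subtype.ext h), ?_⟩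
    obtain ⟨c, hc⟩ := hv ⟨act g v, hI v v.2⟩
    exact ⟨c, (congrArg Subtype.val hc).symm⟩
  -- no nondegenerate invariant line
  have hline : ∀ Y : Submodule F (Fin 3 → F), finrank F Y = 1 → Inv g Y → ¬ Nd q Y := by
    intro Y hY hI hnd
    obtain ⟨v, hvY, hv0, c, hc⟩ := hone Y hY hI
    apply hv0
    apply hnd v hvY
    intro w hw
    obtain ⟨d, hd⟩ := (finrank_eq_one_iff_of_nonzero' (⟨v, hvY⟩ : Y) (fun h => hv0 (congrArg Subtype.val h))).1
      hY ⟨w, hw⟩
    have hd' : d • v = w := congrArg Subtype.val hd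
    rw [← hd', herm_smul_right, hsing v ⟨c, hc⟩, mul_zero]
  have hvv := hsing v ⟨l, hl⟩
  have hl0 : l ≠ 0 := by
    rintro rfl
    rw [zero_smul, act_eq_zero] at hl
    exact hv0 hl
  have hlinv : act g⁻¹ v = l⁻¹ • v := by
    have h1 := congrArg (act g⁻¹) hl
    rw [act_inv_act, act_smul] at h1
    have h2 := congrArg (fun z => l⁻¹ • z) h1
    simp only [smul_smul, inv_mul_cancel₀ hl0, one_smul] at h2
    exact h2.symm
  by_cases hnorm : l * l ^ q = 1
  · -- Case B
    let N : Module.End F (Fin 3 → F) := lin g - algebraMap F _ l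
    let M : Module.End F (Fin 3 → F) := lin g⁻¹ - algebraMap F _ (l ^ q)
    have hNapp : ∀ u, N u = act g u - l • u := fun u => by
      show lin g u - algebraMap F (Module.End F (Fin 3 → F)) l u = _
      rw [Module.algebraMap_end_apply, lin_apply]
    have hMapp : ∀ u, M u = act g⁻¹ u - l ^ q • u := fun u => by
      show lin g⁻¹ u - algebraMap F (Module.End F (Fin 3 → F)) (l ^ q) u = _
      rw [Module.algebraMap_end_apply, lin_apply]
    have hadj : ∀ u w, hermForm 3 F q (N u) w = hermForm 3 F q u (M w) := fun u w => by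
      rw [hNapp, hMapp, herm_sub_left, herm_sub_right hF, herm_smul_left, herm_smul_right,
        pow_q_pow_q hF, herm_act_left]
    have hadjk : ∀ (k : ℕ) (u w), hermForm 3 F q ((N ^ k) u) w = hermForm 3 F q u ((M ^ k) w) := by
      intro k
      induction k with
      | zero => intro u w; simp
      | succ k ih =>
        intro u w
        rw [pow_succ, Module.End.mul_apply, ih, hadj, pow_succ', Module.End.mul_apply]
    -- `M = -l^q g⁻¹ N`
    have hMN : ∀ u, M u = (- l ^ q) • act g⁻¹ (N u) := fun u => by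
      rw [hMapp, hNapp, act_sub, act_inv_act, act_smul, smul_sub, smul_smul, neg_smul, neg_mul,
        mul_comm (l ^ q) l, hnorm, neg_smul, one_smul]
      abel
    have hcomm : ∀ u, N (act g⁻¹ u) = act g⁻¹ (N u) := fun u => by
      rw [hNapp, hNapp, act_sub, act_act_inv, act_inv_act, act_smul]
    have hMk : ∀ (k : ℕ) (u), (N ^ k) u = 0 → (M ^ k) u = 0 := by
      have hcommk : ∀ (k : ℕ) u, (N ^ k) (act g⁻¹ u) = act g⁻¹ ((N ^ k) u) := by
        intro k
        induction k with
        | zero => intro u; simp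
        | succ k ih => intro u; rw [pow_succ', Module.End.mul_apply, ih, hcomm, Module.End.mul_apply]
      intro k
      induction k with
      | zero => intro u h; simpa using h
      | succ k ih =>
        intro u h
        rw [pow_succ, Module.End.mul_apply]
        apply ih
        rw [hMN, map_smul, hcommk]
        rw [pow_succ, Module.End.mul_apply] at h
        rw [h, act_zero, smul_zero]
    set K := LinearMap.ker (N ^ 3) with hK
    set R := LinearMap.range (N ^ 3) with hR
    have hKR : ∀ k ∈ K, ∀ r ∈ R, hermForm 3 F q r k = 0 := by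
      rintro k hk _ ⟨z, rfl⟩
      rw [hadjk, hMk 3 k (LinearMap.mem_ker.1 hk), herm_zero_right hF]
    have hinf : K ⊓ R = ⊥ := by
      rw [Submodule.eq_bot_iff]
      rintro z ⟨hz, y, rfl⟩
      have h1 : (N ^ (3 + 3)) y = 0 := by
        rw [pow_add, Module.End.mul_apply]; exact hz
      have h2 : LinearMap.ker (N ^ (3 + 3)) = LinearMap.ker (N ^ finrank F (Fin 3 → F)) :=
        Module.End.ker_pow_eq_ker_pow_finrank_of_le (by rw [Module.finrank_fin_fun]; omega)
      rw [Module.finrank_fin_fun] at h2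
      have h3 : y ∈ LinearMap.ker (N ^ (3 + 3)) := h1
      rw [h2] at h3
      exact h3
    have hrn : finrank F R + finrank F K = 3 := by
      have := LinearMap.finrank_range_add_finrank_ker (N ^ 3)
      rw [Module.finrank_fin_fun] at this
      exact this
    have hsup : K ⊔ R = ⊤ := by
      apply Submodule.eq_top_of_finrank_eq
      have h1 := Submodule.finrank_sup_add_finrank_inf_eq K R
      rw [hinf, finrank_bot] at h1
      rw [Module.finrank_fin_fun]
      omega
    have hKnd : Nd q K := by
      intro u hu hv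
      apply herm_nondeg hF
      intro w
      have hw : w ∈ K ⊔ R := by rw [hsup]; trivial
      obtain ⟨a, ha, b, hb, rfl⟩ := Submodule.mem_sup.1 hw
      rw [herm_add_right hF, hv a ha, herm_swap hF b u, hKR u hu b hb, zero_pow_q hF, add_zero]
    have hKI : Inv g K := by
      intro u hu
      have hcg : ∀ (k : ℕ) u, (N ^ k) (act g u) = act g ((N ^ k) u) := by
        intro k
        induction k with
        | zero => intro u; simp
        | succ k ih =>
          intro u
          rw [pow_succ', Module.End.mul_apply, ih, Module.End.mul_apply, hNapp, hNapp, act_sub, act_smul]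
      rw [hK, LinearMap.mem_ker, hcg, LinearMap.mem_ker.1 hu, act_zero]
    have hNv : N v = 0 := by rw [hNapp, hl, sub_self]
    have hvK : v ∈ K := by
      rw [hK, LinearMap.mem_ker, pow_succ, Module.End.mul_apply, hNv, map_zero]
    have hperp := finrank_perp hF K
    have hpI : Inv g (perp q K) := hKI.perp
    have hpnd : Nd q (perp q K) := hKnd.perp hF
    have hKpos : finrank F K ≠ 0 := by
      intro h
      rw [Submodule.finrank_eq_zero] at h
      rw [h, Submodule.mem_bot] at hvK
      exact hv0 hvK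
    have hcases : finrank F K = 1 ∨ finrank F K = 2 ∨ finrank F K = 3 := by omega
    rcases hcases with h | h | h
    · exact hline K h hKI hKnd
    · exact hline (perp q K) (by omega) hpI hpnd
    · -- unipotent case
      have hKtop : K = ⊤ := Submodule.eq_top_of_finrank_eq (by rw [h, Module.finrank_fin_fun])
      have hN3 : N ^ 3 = 0 := by
        apply LinearMap.ext
        intro u
        have : u ∈ K := by rw [hKtop]; trivial
        exact this
      -- the matrix version
      have hmN : (mat g - algebraMap F _ l) ^ 3 = 0 := by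
        apply (Matrix.toLinAlgEquiv' (R := F) (n := Fin 3)).injective
        rw [map_pow, map_sub, map_zero, AlgEquiv.commutes]
        exact hN3
      have hp : Fact (Nat.Prime 3) := ⟨Nat.prime_three⟩
      have hchar : CharP (Matrix (Fin 3) (Fin 3) F) 3 := charP F _
      have hl1 : l = 1 := by
        rw [sub_pow_char_of_commute 3 ((Algebra.commutes l (mat g)).symm), sub_eq_zero] at hmN
        have h3 := congrArg Matrix.det hmN
        rw [Matrix.det_pow, det_mat, one_pow, ← map_pow, Matrix.algebraMap_eq_diagonal,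
          Matrix.det_diagonal, Fin.prod_univ_three] at h3
        have h3' : 1 = l ^ 3 * l ^ 3 * l ^ 3 := h3
        have h4 : l ^ 3 = 1 := cube_injective (by
          show (l ^ 3) ^ 3 = 1 ^ 3
          rw [one_pow, h3']; ring)
        exact cube_injective (by
          show l ^ 3 = 1 ^ 3
          rw [h4, one_pow])
      subst hl1
      rw [one_smul] at hl
      rw [map_one] at hmN
      obtain ⟨w, hw, hwv⟩ := hT v hv0 hl hmN
      have hw1 : act g w = (1 : F) • w := by rw [one_smul]; exact hw
      have hv1 : act g v = (1 : F) • v := by rw [one_smul]; exact hl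
      have hli : LinearIndependent F ![v, w] := by
        rw [LinearIndependent.pair_iff' hv0]
        intro a ha
        exact hwv a ha.symm
      have hne := hpair v w ⟨1, hv1⟩ ⟨1, hw1⟩ hli
      have h4 : ∀ c : F, c ^ q * hermForm 3 F q v w + (c ^ q * hermForm 3 F q v w) ^ q = 0 := by
        intro c
        have h5 := hsing (v + c • w) ⟨1, by rw [act_add, act_smul, hl, hw, one_smul]⟩
        simp only [herm_add_left, herm_add_right hF, herm_smul_left, herm_smul_right, hvv,
          hsing w ⟨1, hw1⟩, mul_zero, add_zero, zero_add] at h5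
        rw [mul_pow, pow_q_pow_q hF, ← herm_swap hF v w]
        linear_combination h5
      apply hne
      apply eq_zero_of_forall_trace hF
      intro c
      have h6 := h4 (c ^ q)
      rwa [pow_q_pow_q hF] at h6
  · -- Case A
    obtain ⟨m, hm⟩ : ∃ m : F, m = (l ^ q)⁻¹ := ⟨_, rfl⟩
    have hmq : m ^ q = l⁻¹ := by rw [hm, inv_pow, pow_q_pow_q hF]
    obtain ⟨w, hw0, hw⟩ : ∃ w : Fin 3 → F, w ≠ 0 ∧ act g w = m • w := by
      by_contra hcon
      push Not at hcon
      let N : Module.End F (Fin 3 → F) := lin g - algebraMap F _ m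
      have hNapp : ∀ u, N u = act g u - m • u := fun u => by
        show lin g u - algebraMap F (Module.End F (Fin 3 → F)) m u = _
        rw [Module.algebraMap_end_apply, lin_apply]
      have hinj : Function.Injective N := by
        rw [injective_iff_map_eq_zero]
        intro u hu
        by_contra hu0
        apply hcon u hu0
        rw [hNapp, sub_eq_zero] at hu
        exact hu
      have hsurj := LinearMap.injective_iff_surjective.1 hinj
      apply hv0
      apply herm_nondeg hF
      intro z
      obtain ⟨y, rfl⟩ := hsurj z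
      rw [hNapp, herm_sub_right hF, herm_smul_right, hmq]
      have h1 : hermForm 3 F q v (act g y) = hermForm 3 F q (act g⁻¹ v) y := by
        rw [herm_act_left, inv_inv]
      rw [h1, hlinv, herm_smul_left, sub_self]
    have hlm : l ≠ m := by
      intro h
      apply hnorm
      rw [← h] at hmq
      rw [hmq]
      exact mul_inv_cancel₀ hl0
    have hli : LinearIndependent F ![v, w] := by
      rw [LinearIndependent.pair_iff' hv0]
      intro a ha
      have h1 : m • w = l • w := by
        rw [← hw, ← ha, act_smul, hl, smul_comm]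
      have h2 : (m - l) • w = 0 := by rw [sub_smul, h1, sub_self]
      rcases smul_eq_zero.1 h2 with h | h
      · exact hlm (sub_eq_zero.1 h).symm
      · exact hw0 h
    have hvw := hpair v w ⟨l, hl⟩ ⟨m, hw⟩ hli
    have hww := hsing w ⟨m, hw⟩
    set Y := Submodule.span F {v, w} with hY
    have hY2 : finrank F Y = 2 := UFour.finrank_pair hli
    have hYI : Inv g Y := by
      intro a ha
      obtain ⟨a1, a2, rfl⟩ := Submodule.mem_span_pair.1 ha
      rw [act_add, act_smul, act_smul, hl, hw]
      exact Submodule.add_mem _ (Submodule.smul_mem _ _ (Submodule.smul_mem _ _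
        (Submodule.subset_span (by simp)))) (Submodule.smul_mem _ _ (Submodule.smul_mem _ _
        (Submodule.subset_span (by simp))))
    have hvY : v ∈ Y := Submodule.subset_span (by simp)
    have hwY : w ∈ Y := Submodule.subset_span (by simp)
    have hYnd : Nd q Y := by
      intro a ha hb
      obtain ⟨a1, a2, rfl⟩ := Submodule.mem_span_pair.1 ha
      have h1 := hb v hvY
      have h2 := hb w hwY
      rw [herm_add_left, herm_smul_left, herm_smul_left, hvv, mul_zero, zero_add] at h1
      rw [herm_add_left, herm_smul_left, herm_smul_left, hww, mul_zero, add_zero] at h2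
      have hwv : hermForm 3 F q w v ≠ 0 := fun h => hvw (herm_eq_zero_swap hF h)
      have h3 := (mul_eq_zero.1 h1).resolve_right hwv
      have h4 := (mul_eq_zero.1 h2).resolve_right hvw
      rw [h3, h4, zero_smul, zero_smul, add_zero]
    have hperp := finrank_perp hF Y
    exact hline (perp q Y) (by omega) hYI.perp (hYnd.perp hF)

omit [Fintype F] in
/-- Elements commuting with a regular nilpotent are scalar plus nilpotent. -/
theorem commute_nilp {n : Type*} [Fintype n] [DecidableEq n] {N C : Matrix n n F} {v : n → F} {k : ℕ}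
    (hk : N ^ k = 0)
    (hker : ∀ u, N *ᵥ u = 0 → ∃ a : F, u = a • v) (hNv : N *ᵥ v = 0)
    (hcomm : N * C = C * N) : ∃ l : F, C *ᵥ v = l • v ∧ (C - algebraMap F _ l) ^ k = 0 := by
  obtain ⟨l, hl⟩ := hker (C *ᵥ v) (by
    rw [mulVec_mulVec, hcomm, ← mulVec_mulVec, hNv, mulVec_zero])
  refine ⟨l, hl, ?_⟩
  set D := C - algebraMap F _ l with hD
  have hDN : N * D = D * N := by
    rw [hD, mul_sub, sub_mul, hcomm, Algebra.commutes]
  have hDv : D *ᵥ v = 0 := by
    rw [hD, Matrix.sub_mulVec, hl, Matrix.algebraMap_eq_diagonal]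
    ext i
    rw [Pi.sub_apply, Matrix.mulVec_diagonal]
    simp
  have hDNk : ∀ i : ℕ, N * D ^ i = D ^ i * N := by
    intro i
    induction i with
    | zero => simp
    | succ i ih => rw [pow_succ, ← mul_assoc, ih, mul_assoc, hDN, mul_assoc]
  have key : ∀ (i : ℕ) (u : n → F), N ^ i *ᵥ u = 0 → D ^ i *ᵥ u = 0 := by
    intro i
    induction i with
    | zero => intro u h; simpa using h
    | succ i ih =>
      intro u h
      rw [pow_succ, ← mulVec_mulVec] at h
      have h1 := ih _ h
      rw [mulVec_mulVec, ← hDNk, ← mulVec_mulVec] at h1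
      obtain ⟨a, ha⟩ := hker _ h1
      rw [pow_succ', ← mulVec_mulVec, ha, mulVec_smul, hDv, smul_zero]
  apply Matrix.ext_of_mulVec_single
  intro i
  rw [key k _ (by rw [hk, zero_mulVec]), zero_mulVec]

theorem mem_fixed_of (hF : Fintype.card F = q ^ 2) {n : ℕ} [NeZero n] {C : Matrix (Fin n) (Fin n) F} {l : F} {k : ℕ}
    (hC : ad hF C = C) (h : (C - algebraMap F _ l) ^ k = 0) : l ^ q = l := by
  have h1 : (C - algebraMap F _ (l ^ q)) ^ k = 0 := by
    have := congrArg (ad hF) h
    rw [ad_pow, ad_sub, hC, ad_algebraMap, ad_zero] at this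
    exact this
  have hcomm : Commute (C - algebraMap F _ l) (C - algebraMap F _ (l ^ q)) :=
    ((Commute.refl C).sub_right (Algebra.commutes (l ^ q) C).symm).sub_left (Algebra.commutes l _)
  have h2 : IsNilpotent ((C - algebraMap F _ l) - (C - algebraMap F _ (l ^ q))) :=
    hcomm.isNilpotent_sub ⟨k, h⟩ ⟨k, h1⟩
  rw [sub_sub_sub_cancel_left, ← map_sub] at h2
  have h3 : IsNilpotent (l ^ q - l) := by
    obtain ⟨m, hm⟩ := h2
    refine ⟨m, ?_⟩
    rw [← map_pow] at hm
    exact (algebraMap F (Matrix (Fin n) (Fin n) F)).injective (by rw [hm, map_zero])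
  exact sub_eq_zero.1 h3.eq_zero

/-- the regular unipotent case -/
theorem exists_t_unip (hF : Fintype.card F = q ^ 2) [CharP F 3] {c1 : F} (hc1 : c1 ^ q = c1)
    (g : SU 3 F q) {v : Fin 3 → F} (hv0 : v ≠ 0) (hv : act g v = v) (hN : (mat g - 1) ^ 3 = 0)
    (hker : ∀ u : Fin 3 → F, act g u = u → ∃ a : F, u = a • v) :
    ∃ t : Matrix (Fin 3) (Fin 3) F, ad hF t = t ∧ t ^ 3 - t = algebraMap F _ c1 ∧
      mat g * t = (t + 1) * mat g := by
  have h3 : (3 : F) = 0 := by exact_mod_cast CharP.cast_eq_zero F 3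
  have hNv : (mat g - 1) *ᵥ v = 0 := by
    rw [Matrix.sub_mulVec, one_mulVec]
    exact sub_eq_zero.2 hv
  have hker' : ∀ u, (mat g - 1) *ᵥ u = 0 → ∃ a : F, u = a • v := by
    intro u hu
    apply hker
    rw [Matrix.sub_mulVec, one_mulVec, sub_eq_zero] at hu
    exact hu
  have hcom : ∀ C : Matrix (Fin 3) (Fin 3) F, mat g * C = C * mat g →
      ∃ l : F, C *ᵥ v = l • v ∧ (C - algebraMap F _ l) ^ 3 = 0 := by
    intro C hC
    apply commute_nilp hN hker' hNv
    rw [sub_mul, mul_sub, hC, one_mul, mul_one]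
  -- traces
  have htr : ∀ c : Matrix (Fin 3) (Fin 3) F, mat g * c = c * mat g → c.trace = 0 := by
    intro c hc
    obtain ⟨l, _, hl⟩ := hcom c hc
    have h1 : IsNilpotent (c - algebraMap F _ l).trace :=
      Matrix.isNilpotent_trace_of_isNilpotent ⟨3, hl⟩
    have h2 := h1.eq_zero
    rw [Matrix.trace_sub, sub_eq_zero, Matrix.algebraMap_eq_diagonal, Matrix.trace_diagonal,
      Fin.sum_univ_three] at h2
    rw [h2]
    show l + l + l = 0
    linear_combination l * h3
  obtain ⟨t0, ht0⟩ := exists_shift htr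
  -- symmetrise
  set t : Matrix (Fin 3) (Fin 3) F := -(t0 + ad hF t0) with ht
  have hadt : ad hF t = t := by
    rw [ht, ad_neg, ad_add, ad_ad, add_comm]
  have h3m : (3 : Matrix (Fin 3) (Fin 3) F) = 0 := three_eq_zero F _
  have ht0' : mat g * ad hF t0 = (ad hF t0 + 1) * mat g := by
    have h1 := congrArg (ad hF) ht0
    rw [ad_mul, ad_mul, ad_add, ad_one, ad_mat] at h1
    have h2 : mat g * (ad hF t0 * mat g⁻¹) * mat g = mat g * (mat g⁻¹ * (ad hF t0 + 1)) * mat g := by
      rw [h1]
    rw [← mul_assoc, mul_assoc (mat g * ad hF t0), mat_inv_mul, mul_one, ← mul_assoc (mat g) (mat g⁻¹),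
      mat_mul_inv, one_mul] at h2
    exact h2
  have htg : mat g * t = (t + 1) * mat g := by
    have e : mat g * t = -(mat g * t0 + mat g * ad hF t0) := by rw [ht]; noncomm_ring
    rw [e, ht0, ht0', ht]
    have e2 : -((t0 + 1) * mat g + (ad hF t0 + 1) * mat g) =
      (-(t0 + ad hF t0) + 1) * mat g - 3 * mat g := by noncomm_ring
    rw [e2, h3m, zero_mul, sub_zero]
  -- the scalars
  have hgz : mat g * (t ^ 3 - t) = (t ^ 3 - t) * mat g := by
    have h1 := shift_pow F htg 1
    rw [pow_one] at h1
    rw [mul_sub, h1, htg]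
    noncomm_ring
  obtain ⟨lz, _, hlz⟩ := hcom _ hgz
  have hlzq : lz ^ q = lz := by
    apply mem_fixed_of hF _ hlz
    rw [ad_sub, ad_pow, hadt]
  have hgy : mat g * (mat g + mat g⁻¹) = (mat g + mat g⁻¹) * mat g := by
    rw [mul_add, add_mul, mat_mul_inv, mat_inv_mul]
  obtain ⟨ly, hly, hly'⟩ := hcom _ hgy
  have hly2 : ly = 2 := by
    have h1 : (mat g + mat g⁻¹) *ᵥ v = (2 : F) • v := by
      have h2 : act g⁻¹ v = v := by
        have := congrArg (act g⁻¹) hv
        rw [act_inv_act] at this
        exact this.symm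
      rw [Matrix.add_mulVec]
      show act g v + act g⁻¹ v = _
      rw [hv, h2, two_smul]
    rw [h1] at hly
    have h2 : ((2 : F) - ly) • v = 0 := by rw [sub_smul, hly, sub_self]
    rcases smul_eq_zero.1 h2 with h | h
    · exact (sub_eq_zero.1 h).symm
    · exact absurd h hv0
  have hly0 : ly ≠ 0 := by
    rw [hly2]
    intro h
    have : (1 : F) = 0 := by linear_combination h3 - h
    exact one_ne_zero this
  have hlyq : ly ^ q = ly := by
    apply mem_fixed_of hF _ hly'
    rw [ad_add, ad_mat, ad_mat, inv_inv, add_comm]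
  obtain ⟨N, c0, β, hc0, hβ, hw⟩ := core (u := mat g) (u' := mat g⁻¹) (t := t) (mat_mul_inv g)
    (mat_inv_mul g) htg (lz := lz) (ly := ly) (nz := t ^ 3 - t - algebraMap F _ lz)
    (ny := mat g + mat g⁻¹ - algebraMap F _ ly) (by abel) (by abel) ⟨3, hlz⟩ ⟨3, hly'⟩ hly0 c1
  have hc0q : c0 ^ q = c0 := by
    apply pow_three_pow_injective N
    show (c0 ^ q) ^ 3 ^ N = c0 ^ 3 ^ N
    rw [← pow_mul, mul_comm, pow_mul, hc0, hc1]
  have hβq : β ^ q = β := by
    apply cube_injective
    show (β ^ q) ^ 3 = β ^ 3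
    have h1 : (β ^ 3) ^ q * ly ^ 3 = β ^ 3 * ly ^ 3 := by
      have h2 : (β ^ 3 * ly ^ 3) ^ q = (c0 - lz) ^ q := by rw [hβ]
      rw [mul_pow, sub_pow_q hF, hc0q, hlzq, ← pow_mul ly, mul_comm 3 q, pow_mul ly, hlyq] at h2
      rw [h2, hβ]
    have h2 := mul_right_cancel₀ (pow_ne_zero 3 hly0) h1
    rw [← pow_mul, mul_comm, pow_mul]
    exact h2
  set w := t + algebraMap F _ β * (mat g + mat g⁻¹) with hwd
  have hadw : ad hF w = w := by
    rw [hwd, ad_add, hadt, ad_mul, ad_algebraMap, hβq, ad_add, ad_mat, ad_mat, inv_inv,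
      ← Algebra.commutes, add_comm (mat g⁻¹)]
  have hgw : mat g * w = (w + 1) * mat g := by
    rw [hwd, mul_add, htg, ← mul_assoc, ← Algebra.commutes β (mat g), mul_assoc, hgy]
    noncomm_ring
  refine ⟨w ^ 3 ^ N, ?_, hw, shift_pow F hgw N⟩
  rw [ad_pow, hadw]

/-- an irreducible element has no invariant subspaces -/
theorem inv_trivial (hF : Fintype.card F = q ^ 2) {g : SU 3 F q}
    (hno : ∀ v : Fin 3 → F, v ≠ 0 → ∀ c : F, act g v ≠ c • v) (Y : Submodule F (Fin 3 → F))
    (hY : Inv g Y) (hne : Y ≠ ⊥) : Y = ⊤ := by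
  have hone : ∀ Y : Submodule F (Fin 3 → F), finrank F Y = 1 → Inv g Y → False := by
    intro Y hY hI
    obtain ⟨v, hv0, hv⟩ := finrank_eq_one_iff'.1 hY
    obtain ⟨c, hc⟩ := hv ⟨act g v, hI v v.2⟩
    exact hno v (fun h => hv0 (Subtype.ext h)) c (congrArg Subtype.val hc).symm
  have h1 := finrank_perp hF Y
  have h0 : finrank F Y ≠ 0 := fun h => hne (Submodule.finrank_eq_zero.1 h)
  have h2 : finrank F Y ≠ 1 := fun h => hone Y h hY
  have h3 : finrank F (perp q Y) ≠ 1 := fun h => hone _ h hY.perp
  exact Submodule.eq_top_of_finrank_eq (by rw [Module.finrank_fin_fun]; omega)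

/-- the irreducible case -/
theorem exists_t_irr (hF : Fintype.card F = q ^ 2) [CharP F 3] {c1 : F} (hc1 : c1 ^ q = c1)
    (hc : ∀ x : F, x ^ 3 - x ≠ c1) (g : SU 3 F q)
    (hno : ∀ v : Fin 3 → F, v ≠ 0 → ∀ c : F, act g v ≠ c • v) :
    ∃ t : Matrix (Fin 3) (Fin 3) F, ad hF t = t ∧ t ^ 3 - t = algebraMap F _ c1 ∧
      mat g * t = t * mat g := by
  have hp : Fact (Nat.Prime 3) := ⟨Nat.prime_three⟩
  have hchar : CharP (Matrix (Fin 3) (Fin 3) F) 3 := charP F _
  have hchi : (mat g).charpoly ≠ 0 := (Matrix.charpoly_monic _).ne_zero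
  have hroot : ∀ c, ¬ ((mat g).charpoly).IsRoot c := by
    intro c hc
    have h1 : (LinearMap.charpoly (lin g)).IsRoot c := by
      rw [lin, Matrix.charpoly_mulVecLin]; exact hc
    rw [← Module.End.hasEigenvalue_iff_isRoot_charpoly] at h1
    obtain ⟨v, hv⟩ := h1.exists_hasEigenvector
    exact hno v hv.2 c hv.apply_eq_smul
  have hdeg : (mat g).charpoly.natDegree = 3 := by
    rw [Matrix.charpoly_natDegree_eq_dim, Fintype.card_fin]
  have hirr : Irreducible (mat g).charpoly := by
    apply Polynomial.irreducible_of_degree_le_three_of_not_isRoot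
    · rw [hdeg]; simp
    · exact hroot
  obtain ⟨G, hG⟩ := PSLCov.exists_comp (irr_AS hc) (mat g).charpoly hchi (by
    intro f hf hfd
    rw [Polynomial.natDegree_eq_of_degree_eq (Polynomial.degree_eq_degree_of_associated
      (hf.associated_of_dvd hirr hfd)), hdeg, natDegree_AS])
  set t : Matrix (Fin 3) (Fin 3) F := aeval (mat g) G with ht
  have htc : t ^ 3 - t = algebraMap F _ c1 := by
    obtain ⟨r, hr⟩ := hG
    have h1 : aeval (mat g) ((X ^ 3 - X - C c1 : F[X]).comp G) = 0 := by
      rw [hr, map_mul, Matrix.aeval_self_charpoly, zero_mul]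
    rw [aeval_comp] at h1
    simp only [map_sub, map_pow, aeval_X, aeval_C] at h1
    exact sub_eq_zero.1 h1
  have hgt : mat g * t = t * mat g := by
    have h2 : Commute (aeval (mat g) (X : F[X])) (aeval (mat g) G) := by
      rw [Commute, SemiconjBy, ← map_mul, ← map_mul, mul_comm]
    rw [aeval_X] at h2
    exact h2
  -- the adjoint commutes with `g`
  have hgt' : mat g * ad hF t = ad hF t * mat g := by
    have h1 := congrArg (ad hF) hgt
    rw [ad_mul, ad_mul, ad_mat] at h1
    have h2 : mat g * (ad hF t * mat g⁻¹) * mat g = mat g * (mat g⁻¹ * ad hF t) * mat g := by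
      rw [h1]
    rw [← mul_assoc, mul_assoc (mat g * ad hF t), mat_inv_mul, mul_one, ← mul_assoc (mat g) (mat g⁻¹),
      mat_mul_inv, one_mul] at h2
    exact h2
  have htt : Commute (ad hF t) t := by
    have h1 : Commute (ad hF t) (mat g) := hgt'.symm
    have h2 : ∀ P : F[X], Commute (ad hF t) (aeval (mat g) P) := by
      intro P
      induction P using Polynomial.induction_on' with
      | add A B hA hB => rw [map_add]; exact hA.add_right hB
      | monomial k a =>
        rw [aeval_monomial]
        exact Commute.mul_right (Algebra.commutes a (ad hF t)).symm (h1.pow_right k)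
    exact h2 G
  have htc' : (ad hF t) ^ 3 - ad hF t = algebraMap F _ c1 := by
    have := congrArg (ad hF) htc
    rw [ad_sub, ad_pow, ad_algebraMap, hc1] at this
    exact this
  -- the difference
  set D := ad hF t - t with hD
  have hD3 : D ^ 3 = D := by
    rw [hD, sub_pow_char_of_commute 3 htt]
    have : ad hF t ^ 3 - t ^ 3 = (ad hF t ^ 3 - ad hF t) - (t ^ 3 - t) + (ad hF t - t) := by abel
    rw [this, htc, htc', sub_self, zero_add]
  have hgD : mat g * D = D * mat g := by rw [hD, mul_sub, sub_mul, hgt, hgt']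
  have hscal : ∃ i : F, D = algebraMap F _ i := by
    -- an eigenvalue of `D`
    have h1 : ∃ i : F, ∃ v : Fin 3 → F, v ≠ 0 ∧ D *ᵥ v = i • v := by
      have h3 : (3 : F) = 0 := by exact_mod_cast CharP.cast_eq_zero F 3
      by_contra hcon
      push Not at hcon
      have hinj : ∀ i : F, ∀ v : Fin 3 → F, D *ᵥ v = i • v → v = 0 := by
        intro i v hv
        by_contra h
        exact hcon i v h hv
      have h0 : ∀ v, v = (0 : Fin 3 → F) := by
        intro v
        have e3 : D *ᵥ (D *ᵥ (D *ᵥ v)) = D *ᵥ v := by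
          rw [mulVec_mulVec, mulVec_mulVec, ← pow_two, ← pow_succ, hD3]
        -- `(D - 1)(D + 1) D v = 0`
        have a1 : D *ᵥ (D *ᵥ v) = D *ᵥ v := by
          have : D *ᵥ (D *ᵥ (D *ᵥ v) - D *ᵥ v) = (-1 : F) • (D *ᵥ (D *ᵥ v) - D *ᵥ v) := by
            rw [mulVec_sub, e3, neg_smul, one_smul, neg_sub]
          exact sub_eq_zero.1 (hinj _ _ this)
        have a2 : D *ᵥ v = v := by
          have : D *ᵥ (D *ᵥ v - v) = (0 : F) • (D *ᵥ v - v) := by
            rw [mulVec_sub, a1, sub_self, zero_smul]
          exact sub_eq_zero.1 (hinj _ _ this)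
        exact hinj 1 v (by rw [a2, one_smul])
      exact one_ne_zero (congrFun (h0 (fun _ => 1)) 0)
    obtain ⟨i, v, hv0, hv⟩ := h1
    refine ⟨i, ?_⟩
    let Y : Submodule F (Fin 3 → F) := LinearMap.ker (Matrix.mulVecLin D - i • LinearMap.id)
    have hmY : ∀ u, u ∈ Y ↔ D *ᵥ u = i • u := by
      intro u
      rw [LinearMap.mem_ker, LinearMap.sub_apply, sub_eq_zero]
      rfl
    have hYI : Inv g Y := by
      intro u hu
      rw [hmY] at hu ⊢
      show D *ᵥ (mat g *ᵥ u) = i • (mat g *ᵥ u)
      rw [mulVec_mulVec, ← hgD, ← mulVec_mulVec, hu, mulVec_smul]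
    have hYtop : Y = ⊤ := by
      apply inv_trivial hF hno Y hYI
      intro h
      apply hv0
      have : v ∈ Y := (hmY v).2 hv
      rw [h, Submodule.mem_bot] at this
      exact this
    apply Matrix.ext_of_mulVec_single
    intro j
    have : (Pi.single j 1 : Fin 3 → F) ∈ Y := by rw [hYtop]; trivial
    rw [(hmY _).1 this, Matrix.algebraMap_eq_diagonal]
    ext k
    rw [Pi.smul_apply, Matrix.mulVec_diagonal]
    rfl
  obtain ⟨i, hi⟩ := hscal
  have had : ad hF t = t + algebraMap F _ i := by rw [← hi, hD]; abel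
  have hi3 : i ^ 3 = i := by
    rw [hi, ← map_pow] at hD3
    exact (algebraMap F (Matrix (Fin 3) (Fin 3) F)).injective hD3
  have hiq : i ^ q = i := by
    rcases fixed_cases hi3 with rfl | rfl | rfl
    · exact zero_pow_q hF
    · exact one_pow q
    · rw [← one_add_one_eq_two, add_pow_q hF, one_pow]
  have hi0 : i = 0 := by
    have h1 := congrArg (ad hF) had
    rw [ad_ad, ad_add, ad_algebraMap, hiq, had, add_assoc, ← map_add] at h1
    have h2 : algebraMap F (Matrix (Fin 3) (Fin 3) F) (i + i) = 0 := by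
      have := congrArg (fun x => x - t) h1
      simp only [sub_self, add_sub_cancel_left] at this
      exact this.symm
    have h3 : i + i = 0 := (algebraMap F (Matrix (Fin 3) (Fin 3) F)).injective (by rw [h2, map_zero])
    have h4 : (3 : F) = 0 := by exact_mod_cast CharP.cast_eq_zero F 3
    linear_combination i * h4 - h3
  rw [hi0, map_zero, add_zero] at had
  exact ⟨t, had, htc, hgt⟩

end Cfsg.Agent.H156.UThree
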