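import Mathlib
import Cfsg.Agent.H156.Art
import Cfsg.Agent.H156.Shift
import Cfsg.Agent.H156.UThree

set_option autoImplicit false

/-!
# The normal 2-covering of `PSU₃(3^a)` (helper156)
-/

open Cfsg

namespace Cfsg.Agent.H156.UThreeCov

open Cfsg.Agent.LieClassical.HermBasic Cfsg.Agent.LieClassical.HermSiegel Polynomial Module
  Cfsg.Agent.H156.UBase Cfsg.Agent.H156.UPerp Matrix Cfsg.Agent.H156.Art Cfsg.Agent.H156.UAdj
  Cfsg.Agent.H156.Shift Cfsg.Agent.H156.UStab

variable {F : Type*} [Field F] [Fintype F] {q : ℕ} {c : F}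

section Sigma

variable (hF : Fintype.card F = q ^ 2) (hc : c ^ q = c)

include hc in
theorem map_pol : (pol c).map (conj hF : F →+* F) = pol c := by
  rw [pol, Polynomial.map_sub, Polynomial.map_sub, Polynomial.map_pow, Polynomial.map_X,
    Polynomial.map_C]
  congr 2

/-- The involution of the field. -/
noncomputable def sig : AdjoinRoot (pol c) →+* AdjoinRoot (pol c) :=
  AdjoinRoot.map (conj hF : F →+* F) (pol c) (pol c) (dvd_of_eq (map_pol hF hc).symm)

theorem sig_root : sig hF hc (AdjoinRoot.root (pol c)) = AdjoinRoot.root (pol c) := by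
  rw [sig, AdjoinRoot.map_root]

theorem sig_of (a : F) : sig hF hc (AdjoinRoot.of (pol c) a) = AdjoinRoot.of (pol c) (a ^ q) := by
  rw [sig, AdjoinRoot.map_of]; rfl

theorem sig_sig (a : AdjoinRoot (pol c)) : sig hF hc (sig hF hc a) = a := by
  have h : (sig hF hc).comp (sig hF hc) = RingHom.id _ := by
    apply AdjoinRoot.ringHom_ext
    · ext x
      simp only [RingHom.comp_apply, RingHom.id_apply, sig_of, pow_q_pow_q hF]
    · simp only [RingHom.comp_apply, RingHom.id_apply, sig_root]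
  exact congrArg (fun f : AdjoinRoot (pol c) →+* AdjoinRoot (pol c) => f a) h

variable {n : ℕ} {t : Matrix (Fin n) (Fin n) F} (had : ad hF t = t)
  (ht : t ^ 3 - t = algebraMap F _ c)

include had in
theorem rep_sig (a : AdjoinRoot (pol c)) : rep ht (sig hF hc a) = ad hF (rep ht a) := by
  induction a using AdjoinRoot.induction_on with
  | ih P =>
    induction P using Polynomial.induction_on' with
    | add A B hA hB => rw [map_add, map_add, map_add, map_add, hA, hB, ad_add]
    | monomial k a =>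
      have h1 : AdjoinRoot.mk (pol c) (monomial k a) =
          AdjoinRoot.of (pol c) a * AdjoinRoot.root (pol c) ^ k := by
        rw [← C_mul_X_pow_eq_monomial, map_mul, map_pow]; rfl
      have h2 : ∀ x : F, rep ht (AdjoinRoot.of (pol c) x) = algebraMap F _ x := fun x => by
        rw [← AdjoinRoot.algebraMap_eq, AlgHom.commutes]
      rw [h1, map_mul (sig hF hc), map_pow (sig hF hc), sig_root, sig_of, map_mul (rep ht),
        map_mul (rep ht), map_pow (rep ht), rep_root, h2, h2, ad_mul, ad_pow, had, ad_algebraMap,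
        Algebra.commutes]

end Sigma

section Orbit

variable (hF : Fintype.card F = q ^ 2) [CharP F 3] (hc : c ^ q = c) (hno : ∀ x : F, x ^ 3 - x ≠ c)
  {t : Matrix (Fin 3) (Fin 3) F} (had : ad hF t = t) (ht : t ^ 3 - t = algebraMap F _ c)

omit [Fintype F] in
include hno in
theorem rep_injective {v : Fin 3 → F} (hv : v ≠ 0) {b : AdjoinRoot (pol c)} (hb : rep ht b *ᵥ v = 0) :
    b = 0 := by
  have : Fact (Irreducible (pol c)) := ⟨irr_AS hno⟩
  by_contra h
  apply hv
  have h1 : rep ht b⁻¹ *ᵥ (rep ht b *ᵥ v) = v := by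
    rw [mulVec_mulVec, ← map_mul, inv_mul_cancel₀ h, map_one, one_mulVec]
  rw [← h1, hb, mulVec_zero]

omit [Fintype F] [CharP F 3] in
theorem finDim (c : F) : FiniteDimensional F (AdjoinRoot (pol c)) := Module.Finite.of_basis (bas c)

omit [Fintype F] in
/-- the orbit map as an equivalence -/
noncomputable def orb (hno : ∀ x : F, x ^ 3 - x ≠ c) (ht : t ^ 3 - t = algebraMap F _ c)
    {v : Fin 3 → F} (hv : v ≠ 0) : AdjoinRoot (pol c) ≃ₗ[F] (Fin 3 → F) :=
  haveI := finDim c
  LinearMap.linearEquivOfInjective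
    ({ toFun := fun b => rep ht b *ᵥ v
       map_add' := fun a b => by rw [map_add, Matrix.add_mulVec]
       map_smul' := fun a b => by rw [map_smul, Matrix.smul_mulVec]; rfl } :
        AdjoinRoot (pol c) →ₗ[F] (Fin 3 → F))
    (by
      rw [injective_iff_map_eq_zero]
      intro b hb
      exact rep_injective hno ht hv hb)
    (by rw [finrank_field, Module.finrank_fin_fun])

omit [Fintype F] in
theorem orb_apply {v : Fin 3 → F} (hv : v ≠ 0) (b : AdjoinRoot (pol c)) :
    orb hno ht hv b = rep ht b *ᵥ v := rfl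

include hc hno had ht in
theorem exists_normal : ∃ v : Fin 3 → F, v ≠ 0 ∧
    ∀ k : Fin 3, hermForm 3 F q (t ^ (k : ℕ) *ᵥ v) v = if k = 2 then 1 else 0 := by
  have hfact : Fact (Irreducible (pol c)) := ⟨irr_AS hno⟩
  have hfin : FiniteDimensional F (AdjoinRoot (pol c)) := Module.Finite.of_basis (bas c)
  have hfinite : Finite (AdjoinRoot (pol c)) := Module.finite_of_finite F
  set v0 : Fin 3 → F := fun _ => 1 with hv0d
  have hv0 : v0 ≠ 0 := by
    intro h
    exact one_ne_zero (congrFun h 0)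
  -- the functional map
  let T : AdjoinRoot (pol c) →ₗ[F] (Fin 3 → F) :=
    { toFun := fun a k => hermForm 3 F q (rep ht (a * bas c k) *ᵥ v0) v0
      map_add' := fun a b => by
        funext k
        rw [Pi.add_apply, add_mul, map_add, Matrix.add_mulVec, herm_add_left]
      map_smul' := fun a b => by
        funext k
        rw [Pi.smul_apply, smul_mul_assoc, map_smul, Matrix.smul_mulVec, herm_smul_left]; rfl }
  have hT : ∀ a k, T a k = hermForm 3 F q (rep ht (a * bas c k) *ᵥ v0) v0 := fun a k => rfl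
  have hinj : Function.Injective T := by
    rw [injective_iff_map_eq_zero]
    intro a ha
    by_contra h
    -- the functional `b ↦ h(φ(ab)v0,v0)` vanishes
    let S : AdjoinRoot (pol c) →ₗ[F] F :=
      { toFun := fun b => hermForm 3 F q (rep ht (a * b) *ᵥ v0) v0
        map_add' := fun x y => by rw [mul_add, map_add, Matrix.add_mulVec, herm_add_left]
        map_smul' := fun x y => by
          rw [mul_smul_comm, map_smul, Matrix.smul_mulVec, herm_smul_left]; rfl }
    have hS : S = 0 := by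
      apply (bas c).ext
      intro k
      exact congrFun ha k
    apply hv0
    apply herm_nondeg hF
    intro u
    obtain ⟨b, hb⟩ := (orb hno ht hv0).surjective u
    rw [orb_apply] at hb
    have h1 : S (a⁻¹ * b) = 0 := by rw [hS]; rfl
    have h2 : S (a⁻¹ * b) = hermForm 3 F q (rep ht (a * (a⁻¹ * b)) *ᵥ v0) v0 := rfl
    rw [h2, ← mul_assoc, mul_inv_cancel₀ h, one_mul, hb] at h1
    exact herm_eq_zero_swap hF h1
  have hsurj : Function.Surjective T :=
    (LinearMap.injective_iff_surjective_of_finrank_eq_finrank (by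
      rw [finrank_field, Module.finrank_fin_fun])).1 hinj
  obtain ⟨a, ha⟩ := hsurj (fun k => if k = 2 then 1 else 0)
  have ha' : ∀ k : Fin 3, hermForm 3 F q (rep ht (a * bas c k) *ᵥ v0) v0 = if k = 2 then 1 else 0 :=
    fun k => congrFun ha k
  have hsb : ∀ k : Fin 3, sig hF hc (bas c k) = bas c k := by
    intro k
    rw [bas_apply, map_pow, sig_root]
  -- `a` is fixed
  have hfix : sig hF hc a = a := by
    apply hinj
    funext k
    rw [hT, hT, ha']
    have h1 : sig hF hc a * bas c k = sig hF hc (a * bas c k) := by rw [map_mul, hsb]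
    rw [h1, rep_sig hF hc had, herm_swap hF v0, ← herm_ad, ha']
    split_ifs with h
    · exact one_pow q
    · exact zero_pow_q hF
  have ha0 : a ≠ 0 := by
    rintro rfl
    have := ha' 2
    rw [zero_mul, map_zero, zero_mulVec, herm_zero_left, if_pos rfl] at this
    exact one_ne_zero this.symm
  have hsne : sig hF hc ≠ RingHom.id _ := by
    intro h
    obtain ⟨x, hx⟩ := exists_not_fixed hF
    apply hx
    have h1 := sig_of hF hc x
    rw [h, RingHom.id_apply] at h1
    exact (AdjoinRoot.of.injective_of_degree_ne_zero (f := pol c) (by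
      rw [Polynomial.degree_eq_natDegree (pol_ne_zero c), natDegree_AS]; decide) h1).symm
  obtain ⟨e, he0, he⟩ := Cfsg.Agent.ClassicalGeometry.HermWitt.norm_surj (sig hF hc) hsne
    (sig_sig hF hc) a hfix ha0
  refine ⟨rep ht e *ᵥ v0, ?_, ?_⟩
  · intro h
    exact he0 (rep_injective hno ht hv0 h)
  · intro k
    rw [mulVec_mulVec]
    have h1 : hermForm 3 F q ((t ^ (k : ℕ) * rep ht e) *ᵥ v0) (rep ht e *ᵥ v0) =
        hermForm 3 F q (ad hF (rep ht e) *ᵥ ((t ^ (k : ℕ) * rep ht e) *ᵥ v0)) v0 := by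
      rw [herm_ad hF (ad hF (rep ht e)), ad_ad]
    rw [h1, ← rep_sig hF hc had, mulVec_mulVec]
    have h2 : rep ht (sig hF hc e) * (t ^ (k : ℕ) * rep ht e) = rep ht (a * bas c k) := by
      rw [bas_apply, ← he, map_mul, map_mul, map_pow, rep_root]
      have h3 : Commute (rep ht e) (t ^ (k : ℕ)) := by
        have : Commute (rep ht e) (rep ht (AdjoinRoot.root (pol c) ^ (k : ℕ))) := by
          rw [Commute, SemiconjBy, ← map_mul, ← map_mul, mul_comm]
        rwa [map_pow, rep_root] at this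
      have h4 : rep ht e * rep ht (sig hF hc e) = rep ht (sig hF hc e) * rep ht e := by
        rw [← map_mul, ← map_mul, mul_comm]
      rw [← h3.eq, ← mul_assoc, h4]
    rw [h2]
    exact ha' k

end Orbit

section Conj

variable (hF : Fintype.card F = q ^ 2) [CharP F 3] (hc : c ^ q = c) (hno : ∀ x : F, x ^ 3 - x ≠ c)
  {t t' : Matrix (Fin 3) (Fin 3) F} (had : ad hF t = t) (ht : t ^ 3 - t = algebraMap F _ c)
  (had' : ad hF t' = t') (ht' : t' ^ 3 - t' = algebraMap F _ c)

include hc hno had had' ht ht' in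
theorem exists_conj : ∃ x : SU 3 F q, mat x * t = t' * mat x := by
  obtain ⟨v, hv0, hv⟩ := exists_normal hF hc hno had ht
  obtain ⟨v', hv0', hv'⟩ := exists_normal hF hc hno had' ht'
  let X : (Fin 3 → F) ≃ₗ[F] (Fin 3 → F) := (orb hno ht hv0).symm.trans (orb hno ht' hv0')
  have hX : ∀ b, X (rep ht b *ᵥ v) = rep ht' b *ᵥ v' := by
    intro b
    have h1 : rep ht b *ᵥ v = orb hno ht hv0 b := (orb_apply hno ht hv0 b).symm
    rw [h1, LinearEquiv.trans_apply, LinearEquiv.symm_apply_apply, orb_apply]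
  have hfun : ∀ b, hermForm 3 F q (rep ht b *ᵥ v) v = hermForm 3 F q (rep ht' b *ᵥ v') v' := by
    let S : AdjoinRoot (pol c) →ₗ[F] F :=
      { toFun := fun b => hermForm 3 F q (rep ht b *ᵥ v) v
        map_add' := fun x y => by rw [map_add, Matrix.add_mulVec, herm_add_left]
        map_smul' := fun x y => by rw [map_smul, Matrix.smul_mulVec, herm_smul_left]; rfl }
    let S' : AdjoinRoot (pol c) →ₗ[F] F :=
      { toFun := fun b => hermForm 3 F q (rep ht' b *ᵥ v') v'
        map_add' := fun x y => by rw [map_add, Matrix.add_mulVec, herm_add_left]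
        map_smul' := fun x y => by rw [map_smul, Matrix.smul_mulVec, herm_smul_left]; rfl }
    have hS : S = S' := by
      apply (bas c).ext
      intro k
      show hermForm 3 F q (rep ht (bas c k) *ᵥ v) v = hermForm 3 F q (rep ht' (bas c k) *ᵥ v') v'
      rw [bas_apply, map_pow, map_pow, rep_root, rep_root, hv, hv']
    intro b
    exact congrArg (fun f : AdjoinRoot (pol c) →ₗ[F] F => f b) hS
  set M : Matrix (Fin 3) (Fin 3) F := LinearMap.toMatrix' (X : (Fin 3 → F) →ₗ[F] (Fin 3 → F)) with hM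
  have hMv : ∀ u, M *ᵥ u = X u := fun u => by
    rw [hM, LinearMap.toMatrix'_mulVec]; rfl
  have hiso : ∀ u w, hermForm 3 F q (M *ᵥ u) (M *ᵥ w) = hermForm 3 F q u w := by
    intro u w
    obtain ⟨a, rfl⟩ := (orb hno ht hv0).surjective u
    obtain ⟨b, rfl⟩ := (orb hno ht hv0).surjective w
    rw [orb_apply, orb_apply, hMv, hMv, hX, hX]
    have h1 : ∀ {s : Matrix (Fin 3) (Fin 3) F} (hs : ad hF s = s) (hs' : s ^ 3 - s = algebraMap F _ c)
        (y : Fin 3 → F), hermForm 3 F q (rep hs' a *ᵥ y) (rep hs' b *ᵥ y) =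
          hermForm 3 F q (rep hs' (sig hF hc b * a) *ᵥ y) y := by
      intro s hs hs' y
      rw [map_mul, rep_sig hF hc hs, ← mulVec_mulVec, herm_ad hF (ad hF _), ad_ad]
    rw [h1 had ht, h1 had' ht', hfun]
  have hMt : M * t = t' * M := by
    apply Matrix.ext_of_mulVec_single
    intro i
    obtain ⟨b, hb⟩ := (orb hno ht hv0).surjective (Pi.single i 1)
    rw [← hb, orb_apply, ← mulVec_mulVec, ← mulVec_mulVec, hMv, hMv]
    have h1 : t *ᵥ (rep ht b *ᵥ v) = rep ht (AdjoinRoot.root (pol c) * b) *ᵥ v := by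
      rw [map_mul, rep_root, mulVec_mulVec]
    have h2 : t' *ᵥ (rep ht' b *ᵥ v') = rep ht' (AdjoinRoot.root (pol c) * b) *ᵥ v' := by
      rw [map_mul, rep_root, mulVec_mulVec]
    rw [h1, hX, hX, h2]
  -- determinant
  have hδ := norm_of_det (Cfsg.Agent.ClassicalGeometry.GUBasic.det_pow hF hiso)
  have hδ0 : M.det ≠ 0 := fun h => by rw [h, zero_mul] at hδ; exact zero_ne_one hδ
  obtain ⟨r, hr⟩ := cube_surjective (M.det)⁻¹
  have hr' : r ^ 3 = (M.det)⁻¹ := hr
  have hrq : r * r ^ q = 1 := by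
    apply cube_injective
    show (r * r ^ q) ^ 3 = 1 ^ 3
    rw [mul_pow, ← pow_mul, mul_comm q 3, pow_mul, hr', inv_pow, ← mul_inv, hδ, inv_one, one_pow]
  refine ⟨mkSU (r • M) ?_ ?_, ?_⟩
  · rw [Matrix.det_smul, Fintype.card_fin, hr', inv_mul_cancel₀ hδ0]
  · intro u w
    rw [Matrix.smul_mulVec, Matrix.smul_mulVec, herm_smul_left, herm_smul_right, hiso, ← mul_assoc,
      hrq, one_mul]
  · rw [mat_mkSU, Matrix.smul_mul, Matrix.mul_smul, hMt]

include hF hno had ht in
/-- the stabiliser of `t` is proper -/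
theorem shiftStab_ne_top : shiftStab F (matHom 3 F q) t ≠ ⊤ := by
  intro htop
  -- an isotropic vector
  obtain ⟨cc, hc0, hcc⟩ := exists_trace_zero_ne hF
  obtain ⟨a, ha⟩ := exists_norm_eq hF (c := (-1 : F)) (by rw [neg_pow_q hF, one_pow])
  set f : Fin 3 → F := ![1, a, 0] with hf
  have hf0 : f ≠ 0 := fun h => one_ne_zero (congrFun h 0)
  have hff : hermForm 3 F q f f = 0 := by
    rw [herm_def, Fin.sum_univ_three, hf]
    simp [ha]
  have hmem : (Cfsg.Agent.ClassicalGeometry.UnitTransv.utv hF f cc hff hcc) ∈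
      shiftStab F (matHom 3 F q) t := by rw [htop]; trivial
  obtain ⟨i, hi, hi'⟩ := hmem
  have hT : ∀ u, mat (Cfsg.Agent.ClassicalGeometry.UnitTransv.utv hF f cc hff hcc) *ᵥ u =
      u + (cc * hermForm 3 F q u f) • f := fun u =>
    Cfsg.Agent.ClassicalGeometry.UnitTransv.act_utv hF hff hcc u
  have key : ∀ u, (cc * hermForm 3 F q u (t *ᵥ f)) • f =
      (cc * hermForm 3 F q u f) • (t *ᵥ f) + i • u + (i * (cc * hermForm 3 F q u f)) • f := by
    intro u
    have h1 : (mat (Cfsg.Agent.ClassicalGeometry.UnitTransv.utv hF f cc hff hcc) * t) *ᵥ u =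
        ((t + algebraMap F _ i) * mat (Cfsg.Agent.ClassicalGeometry.UnitTransv.utv hF f cc hff hcc)) *ᵥ u :=
      congrArg (fun M => M *ᵥ u) hi'
    rw [← mulVec_mulVec, ← mulVec_mulVec, hT, hT, Matrix.add_mulVec, mulVec_add, mulVec_smul,
      herm_ad hF t, had] at h1
    have h2 : ∀ y : Fin 3 → F, (algebraMap F (Matrix (Fin 3) (Fin 3) F) i) *ᵥ y = i • y := by
      intro y
      rw [Matrix.algebraMap_eq_diagonal]
      ext k
      rw [Matrix.mulVec_diagonal]
      rfl
    rw [h2, smul_add, smul_smul, add_assoc] at h1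
    have h3 := add_left_cancel h1
    rw [h3, add_assoc]
  -- `i = 0`
  have hi0 : i = 0 := by
    set W := Submodule.span F {f, t *ᵥ f} with hW
    have h1 := finrank_perp hF W
    have h2 : finrank F W ≤ 2 := by
      classical
      have := finrank_span_finset_le_card (R := F) ({f, t *ᵥ f} : Finset (Fin 3 → F))
      rw [Finset.coe_pair] at this
      exact this.trans Finset.card_le_two
    have h3 : perp q W ≠ ⊥ := by
      intro h
      rw [h, finrank_bot] at h1
      omega
    obtain ⟨u, hu, hu0⟩ := Submodule.exists_mem_ne_zero_of_ne_bot h3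
    have h4 : hermForm 3 F q u f = 0 := hu f (Submodule.subset_span (by simp))
    have h5 : hermForm 3 F q u (t *ᵥ f) = 0 := hu _ (Submodule.subset_span (by simp))
    have h6 := key u
    rw [h4, h5, mul_zero, zero_smul, mul_zero, zero_smul, zero_add, zero_smul, add_zero] at h6
    exact (smul_eq_zero.1 h6.symm).resolve_right hu0
  obtain ⟨u, hu⟩ := exists_herm_ne_zero hF hf0
  have hu' : hermForm 3 F q u f ≠ 0 := fun h => hu (herm_eq_zero_swap hF h)
  have h1 := key u
  rw [hi0, zero_smul, zero_mul, zero_smul, add_zero, add_zero] at h1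
  have h2 : t *ᵥ f = (hermForm 3 F q u (t *ᵥ f) * (hermForm 3 F q u f)⁻¹) • f := by
    have h3 : (hermForm 3 F q u f) • (t *ᵥ f) = (hermForm 3 F q u (t *ᵥ f)) • f := by
      have := congrArg (fun y => cc⁻¹ • y) h1
      simp only [smul_smul] at this
      rw [← mul_assoc, ← mul_assoc, inv_mul_cancel₀ hc0, one_mul, one_mul] at this
      exact this.symm
    rw [mul_comm, mul_smul, ← h3, smul_smul, inv_mul_cancel₀ hu', one_smul]
  set μ := hermForm 3 F q u (t *ᵥ f) * (hermForm 3 F q u f)⁻¹ with hμ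
  have h3 : (t ^ 3 - t) *ᵥ f = (μ ^ 3 - μ) • f := by
    rw [Matrix.sub_mulVec, pow_succ, pow_two, ← mulVec_mulVec, ← mulVec_mulVec, h2, mulVec_smul,
      mulVec_smul, h2, mulVec_smul, h2, smul_smul, smul_smul, ← sub_smul]
    congr 1
    ring
  rw [ht, Matrix.algebraMap_eq_diagonal] at h3
  have h4 := congrFun h3 0
  rw [Matrix.mulVec_diagonal] at h4
  apply hno μ
  have h5 : c * 1 = (μ ^ 3 - μ) * 1 := h4
  linear_combination -h5

end Conj

/-- A fixed scalar not of the form `x³ - x`. -/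
theorem exists_scalar (hF : Fintype.card F = q ^ 2) [CharP F 3] :
    ∃ c : F, c ^ q = c ∧ ∀ x : F, x ^ 3 - x ≠ c := by
  by_contra hcon
  push Not at hcon
  let A := {x : F // x ^ q = x}
  let f : A → A := fun x => ⟨x.1 ^ 3 - x.1, by
    rw [sub_pow_q hF, ← pow_mul, mul_comm, pow_mul, x.2]⟩
  have hsurj : Function.Surjective f := by
    rintro ⟨c, hc⟩
    obtain ⟨x, hx⟩ := hcon c hc
    have hx2 : (x ^ q) ^ 3 - x ^ q = c := by
      rw [← hc, ← hx, sub_pow_q hF, ← pow_mul, ← pow_mul, mul_comm q 3]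
    have hd : (x ^ q - x) ^ 3 = x ^ q - x := by
      have := sub_as (x ^ q) x
      rw [hx, hx2, sub_self] at this
      exact sub_eq_zero.1 this
    have hfix : x ^ q = x := by
      set d := x ^ q - x with hdd
      have hxq : x ^ q = x + d := by rw [hdd]; ring
      have hdq : d ^ q = d := by
        rcases fixed_cases hd with h | h | h
        · rw [h]; exact zero_pow_q hF
        · rw [h]; exact one_pow q
        · rw [h, ← one_add_one_eq_two, add_pow_q hF, one_pow]
      have h1 := pow_q_pow_q hF x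
      rw [hxq, add_pow_q hF, hxq, hdq] at h1
      have h3 : (3 : F) = 0 := by exact_mod_cast CharP.cast_eq_zero F 3
      have h2 : d = 0 := by linear_combination d * h3 - h1
      rw [hxq, h2, add_zero]
    exact ⟨⟨x, hfix⟩, Subtype.ext hx⟩
  have hinj := Finite.injective_iff_surjective.mpr hsurj
  have h01 : (⟨0, zero_pow_q hF⟩ : A) = ⟨1, one_pow q⟩ := hinj (Subtype.ext (by
    show (0 : F) ^ 3 - 0 = 1 ^ 3 - 1
    ring))
  exact zero_ne_one (congrArg Subtype.val h01)

theorem psu3 (hF : Fintype.card F = q ^ 2) [CharP F 3] :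
    ∃ H K : Subgroup (Cfsg.PSU 3 F q), H ≠ ⊤ ∧ K ≠ ⊤ ∧ ∀ g : (Cfsg.PSU 3 F q),
      ∃ x : (Cfsg.PSU 3 F q), x * g * x⁻¹ ∈ H ∨ x * g * x⁻¹ ∈ K := by
  classical
  have hw : hermForm 3 F q (Pi.single 0 1) (Pi.single 0 1) = 1 := by
    rw [herm_single_left]; simp
  obtain ⟨c, hc, hno⟩ := exists_scalar hF
  -- the alternative for every element
  have halt : ∀ g : SU 3 F q, (∃ v : Fin 3 → F, hermForm 3 F q v v ≠ 0 ∧ ∃ d : F, act g v = d • v) ∨
      ∃ t : Matrix (Fin 3) (Fin 3) F, ad hF t = t ∧ t ^ 3 - t = algebraMap F _ c ∧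
        ∃ i : F, i ^ 3 = i ∧ mat g * t = (t + algebraMap F _ i) * mat g := by
    intro g
    by_cases h : ∃ v : Fin 3 → F, hermForm 3 F q v v ≠ 0 ∧ ∃ d : F, act g v = d • v
    · exact Or.inl h
    · right
      push Not at h
      rcases UThree.class3 hF g h with h1 | ⟨v, hv0, hv, hN, hker⟩
      · obtain ⟨t, h2, h3, h4⟩ := UThree.exists_t_irr hF hc hno g h1
        exact ⟨t, h2, h3, 0, by ring, by rw [map_zero, add_zero, h4]⟩
      · obtain ⟨t, h2, h3, h4⟩ := UThree.exists_t_unip hF hc g hv0 hv hN hker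
        exact ⟨t, h2, h3, 1, by ring, by rw [map_one, h4]⟩
  by_cases hex : ∃ t : Matrix (Fin 3) (Fin 3) F, ad hF t = t ∧ t ^ 3 - t = algebraMap F _ c
  · obtain ⟨t0, had0, ht0⟩ := hex
    refine TwoCov.quot _ (stab q (Submodule.span F {(Pi.single 0 1 : Fin (0 + 3) → F)}))
      (shiftStab F (matHom 3 F q) t0) (stab_ne_top_of_line hF) (shiftStab_ne_top hF hno had0 ht0)
      (center_le_stab hF (by norm_num) _) ?_ ?_
    · intro z hz
      obtain ⟨d, _, _, hd⟩ := Cfsg.Agent.ClassicalGeometry.PSUAutBasic.exists_scalar_of_mem_center hF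
        (by norm_num) hz
      refine ⟨0, by ring, ?_⟩
      rw [map_zero, add_zero]
      apply Matrix.ext_of_mulVec_single
      intro i
      have hd' : ∀ v, mat z *ᵥ v = d • v := hd
      show (mat z * t0) *ᵥ _ = (t0 * mat z) *ᵥ _
      rw [← mulVec_mulVec, ← mulVec_mulVec, hd', hd', mulVec_smul]
    · intro g
      rcases halt g with ⟨v, hv, d, hd⟩ | ⟨t, had, ht, i, hi, hg⟩
      · obtain ⟨x, hx⟩ := line_into hF (by norm_num) hv hw hd
        exact ⟨x, Or.inl hx⟩
      · obtain ⟨x, hx⟩ := exists_conj hF hc hno had ht had0 ht0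
        exact ⟨x, Or.inr (conj_mem (ρ := matHom 3 F q) hi hg hx)⟩
  · refine TwoCov.quot _ (stab q (Submodule.span F {(Pi.single 0 1 : Fin (0 + 3) → F)}))
      (stab q (Submodule.span F {(Pi.single 0 1 : Fin (0 + 3) → F)}))
      (stab_ne_top_of_line hF) (stab_ne_top_of_line hF)
      (center_le_stab hF (by norm_num) _) (center_le_stab hF (by norm_num) _) ?_
    intro g
    rcases halt g with ⟨v, hv, d, hd⟩ | ⟨t, had, ht, _⟩
    · obtain ⟨x, hx⟩ := line_into hF (by norm_num) hv hw hd
      exact ⟨x, Or.inl hx⟩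
    · exact absurd ⟨t, had, ht⟩ hex

end Cfsg.Agent.H156.UThreeCov
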